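import Mathlib.RingTheory.Flat.EquationalCriterion
import Mathlib.RingTheory.Flat.Stability
import Mathlib.RingTheory.Flat.Localization
import Mathlib.RingTheory.Localization.Integer
import Mathlib.RingTheory.Localization.AtPrime.Basic
import Mathlib.AlgebraicGeometry.Morphisms.Flat
import Mathlib.AlgebraicGeometry.Morphisms.OpenImmersion

/-!
# Multiplications factoring through finite free modules

For an `A`-algebra `B'`, `facIdeal A B'` is the ideal of all `s` in `B'` such that multiplication by `s`
on `B'` factors `A`-linearly through a finite free `A`-module.  If `B'` is a finitely presented `A`-module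
and the local ring `B'_q` is flat over `A`, then `facIdeal A B'` is not contained in `q`.
-/

set_option autoImplicit false
universe u

open TensorProduct

namespace K577.Fac

section Geo

open CategoryTheory AlgebraicGeometry

variable {A C : Type u} [CommRing A] [CommRing C] [Algebra A C]

theorem localRingHom_bijective
    [IsOpenImmersion (Spec.map (CommRingCat.ofHom (algebraMap A C)))] (q : PrimeSpectrum C) :
    Function.Bijective (Localization.localRingHom (q.comap (algebraMap A C)).asIdeal q.asIdeal
      (algebraMap A C) rfl) := by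
  let f := CommRingCat.ofHom (algebraMap A C)
  have h0 : IsOpenImmersion (Spec.map f) := ‹_›
  have h1 : IsIso ((Spec.map f).stalkMap q) := IsOpenImmersion.instIsIsoCommRingCatStalkMap _ _
  have h2 : IsIso (CommRingCat.ofHom (Localization.localRingHom
      (q.comap f.hom).asIdeal q.asIdeal f.hom rfl)) :=
    ((MorphismProperty.isomorphisms CommRingCat).arrow_mk_iso_iff
      (Scheme.arrowStalkMapSpecIso f q)).1 h1
  exact (ConcreteCategory.isIso_iff_bijective _).1 h2

theorem isLocalization_atPrime
    (h : IsOpenImmersion (Spec.map (CommRingCat.ofHom (algebraMap A C)))) (q : Ideal C)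
    [q.IsPrime] :
    IsLocalization.AtPrime (Localization.AtPrime q) (q.comap (algebraMap A C)) := by
  let e : Localization.AtPrime (q.comap (algebraMap A C)) →ₐ[A]
      Localization.AtPrime q :=
    { Localization.localRingHom (q.comap (algebraMap A C)) q
        (algebraMap A C) rfl with
      commutes' := fun a => (Localization.localRingHom_to_map _ _ _ rfl a).trans
        (IsScalarTower.algebraMap_apply A C _ a).symm }
  exact IsLocalization.isLocalization_of_algEquiv _
    (AlgEquiv.ofBijective e (localRingHom_bijective ⟨q, inferInstance⟩))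

theorem flat_of_isOpenImmersion
    (h : IsOpenImmersion (Spec.map (CommRingCat.ofHom (algebraMap A C)))) :
    Module.Flat A C := by
  have h1 : Flat (Spec.map (CommRingCat.ofHom (algebraMap A C))) := inferInstance
  have h2 := (HasRingHomProperty.Spec_iff (P := @Flat)).1 h1
  exact (RingHom.flat_algebraMap_iff).1 h2

end Geo

section FacIdeal

variable (A B' : Type*) [CommRing A] [CommRing B'] [Algebra A B']

/-- The ideal of all `s` such that multiplication by `s` factors through a finite free `A`-module. -/
def facIdeal : Ideal B' where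
  carrier := {s | ∃ (n : ℕ) (u : B' →ₗ[A] (Fin n → A)) (v : (Fin n → A) →ₗ[A] B'),
    ∀ x, v (u x) = s * x}
  zero_mem' := ⟨0, 0, 0, fun x => by simp⟩
  add_mem' := by
    rintro s t ⟨n, u, v, h⟩ ⟨m, u', v', h'⟩
    let e : (Fin (n + m) → A) ≃ₗ[A] (Fin n → A) × (Fin m → A) :=
      (LinearEquiv.funCongrLeft A A finSumFinEquiv) ≪≫ₗ (LinearEquiv.sumArrowLequivProdArrow _ _ A A)
    refine ⟨n + m, e.symm.toLinearMap ∘ₗ (u.prod u'), (v.coprod v') ∘ₗ e.toLinearMap, fun x => ?_⟩
    simp [h, h', add_mul]
  smul_mem' := by
    rintro c s ⟨n, u, v, h⟩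
    refine ⟨n, u, LinearMap.mulLeft A c ∘ₗ v, fun x => ?_⟩
    simp [h, mul_assoc]

variable {A B'}

theorem mem_facIdeal {s : B'} : s ∈ facIdeal A B' ↔
    ∃ (n : ℕ) (u : B' →ₗ[A] (Fin n → A)) (v : (Fin n → A) →ₗ[A] B'), ∀ x, v (u x) = s * x :=
  Iff.rfl

theorem exists_mem_facIdeal_notMem [Module.FinitePresentation A B'] (q : Ideal B') [q.IsPrime]
    (L : Type*) [CommRing L] [Algebra B' L] [Algebra A L] [IsScalarTower A B' L]
    [IsLocalization.AtPrime L q] [Module.Flat A L] : ∃ s ∈ facIdeal A B', s ∉ q := by
  obtain ⟨k, u, w, huw⟩ := Module.Flat.exists_factorization_of_finitePresentation (R := A) (M := L)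
    (P := B') (IsScalarTower.toAlgHom A B' L).toLinearMap
  obtain ⟨s, hs⟩ := IsLocalization.exist_integer_multiples_of_finite q.primeCompl
    (fun i : Fin k => w (Finsupp.single i 1))
  choose b hb using hs
  let v₀ : (Fin k →₀ A) →ₗ[A] B' := Finsupp.linearCombination A b
  have h1 : ∀ y, algebraMap B' L (v₀ y) = algebraMap B' L s * w y := by
    intro y
    induction y using Finsupp.induction_linear with
    | zero => simp
    | add x y hx hy => rw [map_add, map_add, map_add, mul_add, hx, hy]
    | single i a =>
      have h2 : w (Finsupp.single i a) = a • w (Finsupp.single i 1) := by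
        rw [← map_smul, Finsupp.smul_single, smul_eq_mul, mul_one]
      rw [h2, Finsupp.linearCombination_single, Algebra.smul_def, map_mul, hb,
        Algebra.smul_def, Algebra.smul_def, ← IsScalarTower.algebraMap_apply]
      ring
  have h2 : ∀ x : B', algebraMap B' L (v₀ (u x)) = algebraMap B' L (s * x) := by
    intro x
    rw [h1, map_mul]
    congr 1
    exact (LinearMap.congr_fun huw x).symm
  obtain ⟨G, hG⟩ := Module.Finite.fg_top (R := A) (M := B')
  have h3 : ∀ x : B', ∃ c : q.primeCompl, (c : B') * v₀ (u x) = c * (s * x) := fun x =>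
    (IsLocalization.eq_iff_exists q.primeCompl L).1 (h2 x)
  choose c hc using h3
  let t : B' := ∏ x ∈ G, (c x : B')
  have ht : t ∉ q := by
    intro hmem
    obtain ⟨x, _, hx⟩ := (Ideal.IsPrime.prod_mem_iff).1 hmem
    exact (c x).2 hx
  refine ⟨t * s, ?_, fun h => (Ideal.IsPrime.mem_or_mem ‹_› h).elim ht s.2⟩
  let e : (Fin k → A) ≃ₗ[A] (Fin k →₀ A) := (Finsupp.linearEquivFunOnFinite A A (Fin k)).symm
  refine ⟨k, e.symm.toLinearMap ∘ₗ u, LinearMap.mulLeft A t ∘ₗ v₀ ∘ₗ e.toLinearMap, fun x => ?_⟩
  simp only [LinearMap.coe_comp, LinearEquiv.coe_coe, Function.comp_apply,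
    LinearEquiv.apply_symm_apply, LinearMap.mulLeft_apply]
  have hx : x ∈ Submodule.span A (G : Set B') := by rw [hG]; trivial
  induction hx using Submodule.span_induction with
  | mem y hy =>
    have h4 : (c y : B') ∣ t := Finset.dvd_prod_of_mem _ hy
    obtain ⟨d, hd⟩ := h4
    rw [hd]
    have := hc y
    calc (c y : B') * d * v₀ (u y) = d * ((c y : B') * v₀ (u y)) := by ring
      _ = _ := by rw [this]; ring
  | zero => simp
  | add y z _ _ hy hz => simp only [map_add, mul_add, hy, hz]
  | smul a y _ hy => simp only [map_smul, mul_smul_comm, hy]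

end FacIdeal

section Main

variable {A B' B : Type u} [CommRing A] [CommRing B'] [CommRing B]
  [Algebra A B'] [Algebra B' B] [Algebra A B] [IsScalarTower A B' B]

theorem map_facIdeal_eq_top [Module.Flat A B] [Module.FinitePresentation A B']
    (h : AlgebraicGeometry.IsOpenImmersion
      (AlgebraicGeometry.Spec.map (CommRingCat.ofHom (algebraMap B' B)))) :
    (facIdeal A B').map (algebraMap B' B) = ⊤ := by
  by_contra hne
  obtain ⟨q, hq, hle⟩ := Ideal.exists_le_maximal _ hne
  have := isLocalization_atPrime h q
  have hfl : Module.Flat A (Localization.AtPrime q) := Module.Flat.trans A B _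
  have htow : IsScalarTower A B' (Localization.AtPrime q) :=
    IsScalarTower.of_algebraMap_eq fun x => by
      rw [IsScalarTower.algebraMap_apply A B (Localization.AtPrime q),
        IsScalarTower.algebraMap_apply A B' B, ← IsScalarTower.algebraMap_apply B' B]
  obtain ⟨s, hs, hsq⟩ := exists_mem_facIdeal_notMem (A := A) (B' := B')
    (q.comap (algebraMap B' B)) (Localization.AtPrime q)
  exact hsq (hle (Ideal.mem_map_of_mem _ hs))

end Main

section Kill

variable {R S : Type*} [CommRing R] [CommRing S] [Algebra R S] [Module.Flat R S]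
  {M N : Type*} [AddCommGroup M] [AddCommGroup N] [Module R M] [Module R N]

/-- An element killed by an ideal generating the unit ideal is zero. -/
theorem eq_zero_of_span {P : Type*} [AddCommGroup P] [Module S P] (G : Set S)
    (hG : Ideal.span G = ⊤) (z : P) (h : ∀ s ∈ G, s • z = 0) : z = 0 := by
  have h1 : Ideal.span G ≤ LinearMap.ker (LinearMap.toSpanSingleton S P z) := by
    rw [Ideal.span, Submodule.span_le]
    intro s hs
    exact h s hs
  rw [hG, top_le_iff] at h1
  have h2 : (1 : S) ∈ LinearMap.ker (LinearMap.toSpanSingleton S P z) := by rw [h1]; trivial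
  simpa using h2

theorem mem_of_span {P : Type*} [AddCommGroup P] [Module S P] (G : Set S)
    (hG : Ideal.span G = ⊤) (Q : Submodule S P) (z : P) (h : ∀ s ∈ G, s • z ∈ Q) : z ∈ Q := by
  have h1 := eq_zero_of_span G hG (Q.mkQ z) (fun s hs => by
    rw [← map_smul, Submodule.mkQ_apply, Submodule.Quotient.mk_eq_zero]
    exact h s hs)
  rwa [Submodule.mkQ_apply, Submodule.Quotient.mk_eq_zero] at h1

/-- If kernel and cokernel of `f` are killed by elements generating the unit ideal of the flat
algebra `S`, then `S ⊗ f` is bijective. -/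
theorem baseChange_bijective_of_kills (f : M →ₗ[R] N) (G : Set R)
    (hG : Ideal.span (algebraMap R S '' G) = ⊤)
    (hker : ∀ s ∈ G, ∀ x, f x = 0 → s • x = 0)
    (hcok : ∀ s ∈ G, ∀ y, ∃ x, f x = s • y) : Function.Bijective (f.baseChange S) := by
  constructor
  · refine (injective_iff_map_eq_zero _).2 fun z hz => ?_
    have hex : Function.Exact (LinearMap.ker f).subtype f := LinearMap.exact_subtype_ker_map f
    have hex2 := Module.Flat.lTensor_exact S hex
    obtain ⟨w, rfl⟩ := (hex2 z).1 hz
    have hw : w = 0 := by
      apply eq_zero_of_span (S := S) _ hG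
      rintro _ ⟨s, hs, rfl⟩
      clear hz
      induction w with
      | zero => simp
      | add x y hx hy => rw [smul_add, hx, hy, add_zero]
      | tmul a x =>
        rw [algebraMap_smul, ← TensorProduct.tmul_smul]
        have : s • x = 0 := Subtype.ext (hker s hs x x.2)
        rw [this, TensorProduct.tmul_zero]
    rw [hw, map_zero]
  · intro z
    rw [← LinearMap.mem_range]
    apply mem_of_span (S := S) _ hG
    rintro _ ⟨s, hs, rfl⟩
    induction z with
    | zero => rw [smul_zero]; exact Submodule.zero_mem _
    | add x y hx hy => rw [smul_add]; exact Submodule.add_mem _ hx hy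
    | tmul a y =>
      obtain ⟨x, hx⟩ := hcok s hs y
      rw [algebraMap_smul, ← TensorProduct.tmul_smul, ← hx]
      exact ⟨a ⊗ₜ x, LinearMap.baseChange_tmul _ _ _⟩

end Kill

end K577.Fac
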