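import Groth.Prelude.Def_QFDual
import Mathlib.Algebra.Module.FinitePresentation
import Mathlib.RingTheory.Flat.Stability

/-!
# Base change of `Hom_A(B', A)`: the comparison map `B'₁ ⊗[B'] Omega A B' → Omega A₁ B'₁`
-/

set_option autoImplicit false
universe u

open TensorProduct Disc

namespace K577.QFBasic

section

variable (A B' : Type*) [CommRing A] [CommRing B'] [Algebra A B']

/-- `Hom_A(B', A)` as an `A`-module (through `A → B'`). -/
@[reducible] def omegaModuleA : Module A (Omega A B') := Module.compHom _ (algebraMap A B')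

attribute [local instance] omegaModuleA

theorem smulA_toLinearMap (a : A) (φ : Omega A B') :
    (a • φ).toLinearMap = a • φ.toLinearMap := by
  ext x
  change φ.toLinearMap (algebraMap A B' a * x) = a • φ.toLinearMap x
  rw [← Algebra.smul_def, map_smul]

theorem omega_isScalarTower : IsScalarTower A B' (Omega A B') :=
  IsScalarTower.of_algebraMap_smul fun _ _ => rfl

/-- `Omega A B' ≃ Hom_A(B', A)`, `A`-linear. -/
noncomputable def omegaEquivA : Omega A B' ≃ₗ[A] (B' →ₗ[A] A) where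
  toFun φ := φ.toLinearMap
  invFun φ := ⟨φ⟩
  left_inv _ := rfl
  right_inv _ := rfl
  map_add' _ _ := rfl
  map_smul' a φ := smulA_toLinearMap A B' a φ

end

section BC2

universe v u' v'
variable {A : Type u} {B' : Type v} {A₁ : Type u'} {B'₁ : Type v}
  [CommRing A] [CommRing B'] [CommRing A₁] [CommRing B'₁]
  [Algebra A B'] [Algebra A A₁] [Algebra B' B'₁] [Algebra A₁ B'₁] [Algebra A B'₁]
  [IsScalarTower A A₁ B'₁] [IsScalarTower A B' B'₁]

/-- The comparison map `B'₁ ⊗[B'] Omega A B' → Omega A₁ B'₁` is `omegaBC` for `B₁ = B'₁`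
followed by `B'₁ ⊗[B'₁] Ω ≃ Ω`. -/
noncomputable def bcT (h : Algebra.IsPushout A A₁ B' B'₁) :
    B'₁ ⊗[B'] Omega A B' →ₗ[B'₁] Omega A₁ B'₁ :=
  (TensorProduct.lid B'₁ (Omega A₁ B'₁)).toLinearMap ∘ₗ QFDual.omegaBC (B₁ := B'₁) h

theorem bcT_tmul (h : Algebra.IsPushout A A₁ B' B'₁) (b : B'₁) (φ : Omega A B') :
    bcT h (b ⊗ₜ φ) = b • QFDual.bcFin h φ := by
  simp [bcT]

variable {B₁ : Type v} [CommRing B₁] [Algebra B'₁ B₁] [Algebra B' B₁] [IsScalarTower B' B'₁ B₁]

/-- `omegaBC` is `B₁ ⊗[B'₁] bcT` up to the isomorphism `B₁ ⊗[B'₁] (B'₁ ⊗[B'] Ω) ≃ B₁ ⊗[B'] Ω`. -/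
theorem omegaBC_eq (h : Algebra.IsPushout A A₁ B' B'₁) :
    QFDual.omegaBC (B₁ := B₁) h = (bcT h).baseChange B₁ ∘ₗ
      (AlgebraTensorModule.cancelBaseChange B' B'₁ B₁ B₁ (Omega A B')).symm.toLinearMap := by
  ext φ
  simp [bcT_tmul]

theorem omegaBC_bijective_iff (h : Algebra.IsPushout A A₁ B' B'₁) :
    Function.Bijective (QFDual.omegaBC (B₁ := B₁) h) ↔
      Function.Bijective ((bcT h).baseChange B₁) := by
  rw [omegaBC_eq, LinearMap.coe_comp]
  exact Function.Bijective.of_comp_iff _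
    (AlgebraTensorModule.cancelBaseChange B' B'₁ B₁ B₁ (Omega A B')).symm.bijective

theorem baseChange_bijective {R S : Type*} [CommRing R] [CommRing S] [Algebra R S] {M N : Type*}
    [AddCommGroup M] [AddCommGroup N] [Module R M] [Module R N] (f : M →ₗ[R] N)
    (hf : Function.Bijective f) : Function.Bijective (f.baseChange S) := by
  have : f.baseChange S = ((LinearEquiv.ofBijective f hf).baseChange R S M N).toLinearMap := by
    ext x
    rfl
  rw [this]
  exact LinearEquiv.bijective _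

theorem omegaBC_bijective_of_bcT (h : Algebra.IsPushout A A₁ B' B'₁)
    (hb : Function.Bijective (bcT h)) :
    Function.Bijective (QFDual.omegaBC (B₁ := B₁) h) :=
  (omegaBC_bijective_iff h).2 (baseChange_bijective _ hb)

attribute [local instance] omegaModuleA omega_isScalarTower

/-- `bcT` on `A₁ ⊗[A] Ω`. -/
theorem bcT_cancel_symm_tmul (h : Algebra.IsPushout A A₁ B' B'₁) (a : A₁) (φ : Omega A B') :
    (bcT h) ((Algebra.IsPushout.cancelBaseChange A A₁ B' B'₁ (Omega A B')).symm (a ⊗ₜ φ)) =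
      algebraMap A₁ B'₁ a • QFDual.bcFin h φ := by
  rw [Algebra.IsPushout.cancelBaseChange_symm_tmul, bcT_tmul]

theorem bcT_bijective_of_flat [Module.Flat A A₁] [Module.FinitePresentation A B']
    (h : Algebra.IsPushout A A₁ B' B'₁) : Function.Bijective (bcT h) := by
  have hb := Module.FinitePresentation.isBaseChange_map A B' A A₁
  let e₁ : A₁ ⊗[A] Omega A B' ≃ₗ[A₁] A₁ ⊗[A] (B' →ₗ[A] A) :=
    (omegaEquivA A B').baseChange A A₁ _ _
  let e₂ : A₁ ⊗[A] (B' →ₗ[A] A) ≃ₗ[A₁] (A₁ ⊗[A] B' →ₗ[A₁] A₁ ⊗[A] A) := hb.equiv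
  let e₃ : (A₁ ⊗[A] B' →ₗ[A₁] A₁ ⊗[A] A) ≃ₗ[A₁] (B'₁ →ₗ[A₁] A₁) :=
    LinearEquiv.arrowCongr h.out.equiv (AlgebraTensorModule.rid A A₁ A₁)
  let e₄ : (B'₁ →ₗ[A₁] A₁) ≃ₗ[A₁] Omega A₁ B'₁ := (omegaEquivA A₁ B'₁).symm
  let E := e₁ ≪≫ₗ e₂ ≪≫ₗ e₃ ≪≫ₗ e₄
  have key : ∀ z : A₁ ⊗[A] Omega A B',
      (bcT h) ((Algebra.IsPushout.cancelBaseChange A A₁ B' B'₁ (Omega A B')).symm z) = E z := by
    intro z
    induction z with
    | zero => rw [map_zero, map_zero, map_zero]
    | add x y hx hy => rw [map_add, map_add, map_add, hx, hy]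
    | tmul a φ =>
      rw [bcT_cancel_symm_tmul]
      have h1 : E (a ⊗ₜ φ) = a • E (1 ⊗ₜ φ) := by
        rw [← map_smul, TensorProduct.smul_tmul', smul_eq_mul, mul_one]
      rw [h1]
      change a • QFDual.bcFin h φ = a • E (1 ⊗ₜ φ)
      congr 1
      apply Omega.ext
      apply h.out.algHom_ext
      intro x
      have h2 := QFDual.bcFin_apply_algebraMap h φ x
      refine h2.trans ?_
      change _ = (AlgebraTensorModule.rid A A₁ A₁)
        ((hb.equiv (1 ⊗ₜ[A] φ.toLinearMap)) (h.out.equiv.symm _))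
      rw [hb.equiv_tmul, one_smul]
      have h3 : h.out.equiv.symm ((IsScalarTower.toAlgHom A B' B'₁).toLinearMap x) = 1 ⊗ₜ x := by
        rw [LinearEquiv.symm_apply_eq, h.out.equiv_tmul, one_smul]
      rw [h3]
      simp [LinearMap.baseChangeHom, Algebra.algebraMap_eq_smul_one]
  have key2 : (bcT h : B'₁ ⊗[B'] Omega A B' → Omega A₁ B'₁) =
      E ∘ (Algebra.IsPushout.cancelBaseChange A A₁ B' B'₁ (Omega A B')) := by
    funext z
    rw [Function.comp_apply, ← key, LinearEquiv.symm_apply_apply]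
  rw [key2]
  exact E.bijective.comp (LinearEquiv.bijective _)

end BC2

end K577.QFBasic
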