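import Groth.Prelude.Def_QFDual
import Groth.Agent.QFDual.K577.Fac
import Groth.Agent.S2218
import Mathlib.RingTheory.Ideal.AssociatedPrime.Localization
import Mathlib.RingTheory.Localization.BaseChange

/-!
# Associated primes along an open immersion of affine schemes
-/

set_option autoImplicit false
universe u

open TensorProduct Disc QFDual

namespace K577.Ass

open K577.Fac

variable {B' B : Type u} [CommRing B'] [CommRing B] [Algebra B' B]

theorem mem_associatedPrimes_iff [IsNoetherianRing B'] [IsNoetherianRing B]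
    (ho : AlgebraicGeometry.IsOpenImmersion
      (AlgebraicGeometry.Spec.map (CommRingCat.ofHom (algebraMap B' B))))
    (M : Type u) [AddCommGroup M] [Module B' M] (q : Ideal B) [hq : q.IsPrime] :
    q ∈ associatedPrimes B (B ⊗[B'] M) ↔ q.comap (algebraMap B' B) ∈ associatedPrimes B' M := by
  let L := Localization.AtPrime q
  have hloc : IsLocalization.AtPrime L (q.comap (algebraMap B' B)) := isLocalization_atPrime ho q
  let f₁ : B ⊗[B'] M →ₗ[B] L ⊗[B] (B ⊗[B'] M) := TensorProduct.mk B L (B ⊗[B'] M) 1
  let f₂ : M →ₗ[B'] L ⊗[B'] M := TensorProduct.mk B' L M 1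
  have h₁ : IsLocalizedModule q.primeCompl f₁ :=
    (isLocalizedModule_iff_isBaseChange q.primeCompl L f₁).2 (TensorProduct.isBaseChange _ _ _)
  have h₂ : IsLocalizedModule (q.comap (algebraMap B' B)).primeCompl f₂ :=
    (isLocalizedModule_iff_isBaseChange (q.comap (algebraMap B' B)).primeCompl L f₂).2
      (TensorProduct.isBaseChange _ _ _)
  have e₁ := Module.associatedPrimes.preimage_comap_associatedPrimes_eq_associatedPrimes_of_isLocalizedModule
    q.primeCompl L f₁
  have e₂ := Module.associatedPrimes.preimage_comap_associatedPrimes_eq_associatedPrimes_of_isLocalizedModule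
    (q.comap (algebraMap B' B)).primeCompl L f₂
  have e₃ : associatedPrimes L (L ⊗[B] (B ⊗[B'] M)) = associatedPrimes L (L ⊗[B'] M) :=
    LinearEquiv.AssociatedPrimes.eq (AlgebraTensorModule.cancelBaseChange B' B L L M)
  have c₁ : (IsLocalRing.maximalIdeal L).comap (algebraMap B L) = q :=
    Localization.AtPrime.under_maximalIdeal
  have c₂ : (IsLocalRing.maximalIdeal L).comap (algebraMap B' L) = q.comap (algebraMap B' B) := by
    rw [IsScalarTower.algebraMap_eq B' B L, ← Ideal.comap_comap, c₁]
  have k₁ := Set.ext_iff.1 e₁ (IsLocalRing.maximalIdeal L)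
  have k₂ := Set.ext_iff.1 e₂ (IsLocalRing.maximalIdeal L)
  rw [Set.mem_preimage, c₁] at k₁
  rw [Set.mem_preimage, c₂] at k₂
  rw [k₁, k₂, e₃]

theorem associatedPrimes_omega {A : Type u} [CommRing A] [IsNoetherianRing A] [IsNoetherianRing B]
    [Algebra A B'] [Algebra A B] [IsScalarTower A B' B] (hf : IsQFFactor A B' B) :
    associatedPrimes B (omega A B' B) =
      {q : Ideal B | q.IsPrime ∧ q.comap (algebraMap A B) ∈ associatedPrimes A A} := by
  have := hf.finite
  have hN : IsNoetherianRing B' := IsNoetherianRing.of_finite A B'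
  have h1 := Groth.Agent.S2218.result (A := A) (B := B')
  ext q
  constructor
  · intro hq
    have hp : q.IsPrime := hq.1
    refine ⟨hp, ?_⟩
    rw [mem_associatedPrimes_iff hf.isOpenImmersion, h1] at hq
    have h2 := hq.2
    rwa [Ideal.comap_comap, ← IsScalarTower.algebraMap_eq] at h2
  · rintro ⟨hp, hq⟩
    rw [mem_associatedPrimes_iff hf.isOpenImmersion, h1]
    refine ⟨inferInstance, ?_⟩
    rwa [Ideal.comap_comap, ← IsScalarTower.algebraMap_eq]

end K577.Ass
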