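import Groth.Prelude.Def_QFDual
import Groth.Agent.S2733
import Mathlib.RingTheory.Localization.NormTrace
import Mathlib.RingTheory.Localization.BaseChange
import Mathlib.RingTheory.Flat.EquationalCriterion

/-!
# The Dedekind different
-/

set_option autoImplicit false
universe u

open TensorProduct Disc QFDual

namespace K577.Dedekind

section TraceRange

variable {R S T S' : Type*} [CommRing R] [CommRing S] [CommRing T] [CommRing S']
  [Algebra R S] [Algebra R T] [Algebra T S'] [Algebra S S'] [Algebra R S']
  [IsScalarTower R S S'] [IsScalarTower R T S']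

/-- The trace of (the base change of) an element whose multiplication is given by a tensor. -/
theorem trace_eq_of_tensor (h : Algebra.IsPushout R S T S')
    [Module.Free S S'] [Module.Finite S S'] (t : T) (z : Module.Dual R T ⊗[R] T)
    (hz : dualTensorHom R T T z = LinearMap.mulLeft R t) :
    Algebra.trace S S' (algebraMap T S' t) = algebraMap R S (contractLeft R T z) := by
  -- base change of the tensor `z`
  let ε : T →ₗ[R] S' := (IsScalarTower.toAlgHom R T S').toLinearMap
  let D : Module.Dual R T →ₗ[R] Module.Dual S S' := h.out.toDual
  let Φ : Module.Dual R T ⊗[R] T →ₗ[R] Module.Dual S S' ⊗[S] S' :=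
    TensorProduct.lift
      (((TensorProduct.mk S (Module.Dual S S') S').restrictScalars₁₂ R R).compl₁₂ D ε)
  have hΦ : ∀ f x, Φ (f ⊗ₜ x) = D f ⊗ₜ ε x := fun f x => rfl
  have h1 : ∀ (w : Module.Dual R T ⊗[R] T) (x : T),
      dualTensorHom S S' S' (Φ w) (ε x) = ε (dualTensorHom R T T w x) := by
    intro w x
    induction w with
    | zero => simp
    | add a b ha hb => rw [map_add, map_add, LinearMap.add_apply, ha, hb, map_add,
        LinearMap.add_apply, map_add]
    | tmul f y =>
      rw [hΦ, dualTensorHom_apply, dualTensorHom_apply]
      have : D f (ε x) = algebraMap R S (f x) := h.out.toDual_comp_apply f x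
      rw [this, map_smul, algebraMap_smul]
  have h2 : dualTensorHom S S' S' (Φ z) = LinearMap.mulLeft S (algebraMap T S' t) := by
    apply h.out.algHom_ext
    intro x
    refine (h1 z x).trans ?_
    rw [hz]
    simp [ε]
  have h3 : ∀ w : Module.Dual R T ⊗[R] T,
      contractLeft S S' (Φ w) = algebraMap R S (contractLeft R T w) := by
    intro w
    induction w with
    | zero => simp
    | add a b ha hb => rw [map_add, map_add, ha, hb, map_add, map_add]
    | tmul f y =>
      rw [hΦ, contractLeft_apply, contractLeft_apply]
      exact h.out.toDual_comp_apply f y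
  rw [← h3, ← LinearMap.trace_eq_contract_apply, h2, Algebra.trace_apply]
  rfl

/-- If `T` is finite projective over `R` and `S' = S ⊗ T` is finite free over `S`, the trace of an
element of `T` lies in the image of `R`. -/
theorem trace_mem_range [Module.Finite R T] [Module.Projective R T] (h : Algebra.IsPushout R S T S')
    [Module.Free S S'] [Module.Finite S S'] (t : T) :
    Algebra.trace S S' (algebraMap T S' t) ∈ (algebraMap R S).range := by
  obtain ⟨z, hz⟩ := (dualTensorHom_bijective (R := R) (M := T) (N := T)).2 (LinearMap.mulLeft R t)
  exact ⟨_, (trace_eq_of_tensor h t z hz).symm⟩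

/-- The trace commutes with base change. -/
theorem trace_algebraMap [Module.Finite R T] [Module.Free R T] (h : Algebra.IsPushout R S T S')
    [Module.Free S S'] [Module.Finite S S'] (t : T) :
    Algebra.trace S S' (algebraMap T S' t) = algebraMap R S (Algebra.trace R T t) := by
  obtain ⟨z, hz⟩ := (dualTensorHom_bijective (R := R) (M := T) (N := T)).2 (LinearMap.mulLeft R t)
  rw [trace_eq_of_tensor h t z hz, ← LinearMap.trace_eq_contract_apply, hz, Algebra.trace_apply]
  rfl

end TraceRange

section Ded

variable {A K B L : Type u} [CommRing A] [CommRing K] [CommRing B] [CommRing L] [Algebra A K]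
  [Algebra A B] [Algebra B L] [Algebra K L] [Algebra A L] [IsScalarTower A K L]
  [IsScalarTower A B L]

theorem isPushout (h : IsDedekindDefined A K B L) : Algebra.IsPushout A K B L := by
  have := h.isFractionRing
  have := h.isLocalization
  have h1 : Algebra.IsPushout A B K L := Algebra.isPushout_of_isLocalization (nonZeroDivisors A) K B L
  exact h1.symm

omit [Algebra A L] [IsScalarTower A K L] [IsScalarTower A B L] in
theorem injective_AK (h : IsDedekindDefined A K B L) : Function.Injective (algebraMap A K) := by
  have := h.isFractionRing
  exact IsFractionRing.injective A K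

/-- Two `K`-linear maps out of `L` agreeing on `B` are equal. -/
theorem linearMap_ext (h : IsDedekindDefined A K B L) {N : Type*} [AddCommGroup N] [Module K N]
    {f g : L →ₗ[K] N} (hfg : ∀ b : B, f (algebraMap B L b) = g (algebraMap B L b)) : f = g :=
  (isPushout h).out.algHom_ext _ _ hfg

omit [Algebra A L] [IsScalarTower A K L] [IsScalarTower A B L] in
theorem traceForm_bijective (h : IsDedekindDefined A K B L) :
    Function.Bijective (Algebra.traceForm K L) := by
  have := h.etale
  have := h.free
  have := h.finiteKL
  exact Groth.Agent.S2733.bijective_traceForm_of_etale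

theorem ext_of_trace (h : IsDedekindDefined A K B L) (x y : L)
    (hxy : ∀ b : B, Algebra.trace K L (x * algebraMap B L b) =
      Algebra.trace K L (y * algebraMap B L b)) : x = y := by
  apply (traceForm_bijective h).1
  exact linearMap_ext h hxy

theorem exists_of_functional (h : IsDedekindDefined A K B L) (φ : Omega A B) :
    ∃ x : L, ∀ b : B, algebraMap A K (φ.toLinearMap b) =
      Algebra.trace K L (x * algebraMap B L b) := by
  obtain ⟨x, hx⟩ := (traceForm_bijective h).2 ((isPushout h).out.toDual φ.toLinearMap)
  refine ⟨x, fun b => ?_⟩
  have h1 := (isPushout h).out.toDual_comp_apply φ.toLinearMap b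
  rw [← hx] at h1
  exact h1.symm

theorem exists_functional (h : IsDedekindDefined A K B L) (x : L)
    (hx : x ∈ complementary A K B L) :
    ∃ φ : Omega A B, ∀ b : B, algebraMap A K (φ.toLinearMap b) =
      Algebra.trace K L (x * algebraMap B L b) := by
  let G : B →ₗ[A] K := ((Algebra.traceForm K L x).restrictScalars A) ∘ₗ
    (IsScalarTower.toAlgHom A B L).toLinearMap
  have hG : ∀ b : B, G b = Algebra.trace K L (x * algebraMap B L b) := fun b => rfl
  have hGr : ∀ b : B, G b ∈ LinearMap.range (Algebra.linearMap A K) := by
    intro b
    obtain ⟨a, ha⟩ := hx b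
    exact ⟨a, ha⟩
  let e := LinearEquiv.ofInjective (Algebra.linearMap A K) (injective_AK h)
  refine ⟨⟨e.symm.toLinearMap ∘ₗ G.codRestrict _ hGr⟩, fun b => ?_⟩
  change Algebra.linearMap A K (e.symm ⟨G b, hGr b⟩) = G b
  exact congrArg Subtype.val (e.apply_symm_apply ⟨G b, hGr b⟩)

theorem exists_equiv (h : IsDedekindDefined A K B L) :
    ∃ e : complementary A K B L ≃ₗ[B] Omega A B,
      ∀ (x : complementary A K B L) (b : B),
        algebraMap A K ((e x).toLinearMap b) = Algebra.trace K L ((x : L) * algebraMap B L b) := by
  choose f hf using fun x : complementary A K B L => exists_functional h x.1 x.2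
  have hext : ∀ φ ψ : Omega A B, (∀ b, algebraMap A K (φ.toLinearMap b) =
      algebraMap A K (ψ.toLinearMap b)) → φ = ψ := fun φ ψ hφ =>
    Omega.ext (LinearMap.ext fun b => injective_AK h (hφ b))
  let F : complementary A K B L →ₗ[B] Omega A B :=
    { toFun := f
      map_add' := fun x y => by
        apply hext
        intro b
        rw [hf, Omega.add_toLinearMap, LinearMap.add_apply, map_add, hf, hf, ← map_add,
          ← add_mul]
        rfl
      map_smul' := fun c x => by
        apply hext
        intro b
        rw [hf, RingHom.id_apply, Omega.smul_toLinearMap_apply, hf, map_mul (algebraMap B L),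
          Submodule.coe_smul, Algebra.smul_def]
        congr 1
        ring }
  have hinj : Function.Injective F := by
    intro x y hxy
    apply Subtype.ext
    apply ext_of_trace h
    intro b
    rw [← hf, ← hf]
    have : f x = f y := hxy
    rw [this]
  have hsurj : Function.Surjective F := by
    intro φ
    obtain ⟨x, hx⟩ := exists_of_functional h φ
    refine ⟨⟨x, fun b => ⟨φ.toLinearMap b, hx b⟩⟩, ?_⟩
    apply hext
    intro b
    rw [hx]
    exact hf _ b
  exact ⟨LinearEquiv.ofBijective F ⟨hinj, hsurj⟩, fun x b => hf x b⟩

theorem one_mem_of_flat (h : IsDedekindDefined A K B L) [Module.Flat A B] :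
    (1 : L) ∈ complementary A K B L := by
  intro b
  have := h.isNoetherianRing
  have := h.finite
  have := h.free
  have := h.finiteKL
  have : Module.FinitePresentation A B := Module.finitePresentation_of_finite A B
  have : Module.Projective A B := Module.Flat.projective_of_finitePresentation
  rw [one_mul]
  exact trace_mem_range (isPushout h) b

theorem trace_algebraMap_of_free (h : IsDedekindDefined A K B L) [Module.Finite A B]
    [Module.Free A B] (b : B) :
    Algebra.trace K L (algebraMap B L b) = algebraMap A K (Algebra.trace A B b) := by
  have := h.isFractionRing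
  have := h.isLocalization
  exact Algebra.trace_localization A (nonZeroDivisors A) b

theorem dedekindDifferent_eq (h : IsDedekindDefined A K B L) [Module.Finite A B]
    [Module.Free A B] : dedekindDifferent A K B L =
      Submodule.map (Algebra.linearMap B L) (different B (Omega.trace A B)) := by
  have h1 : (1 : L) ∈ complementary A K B L := one_mem_of_flat h
  ext x
  constructor
  · intro hx
    obtain ⟨b, hb⟩ := hx 1 h1
    rw [mul_one] at hb
    refine ⟨b, ?_, hb⟩
    rw [SetLike.mem_coe, mem_different_iff]
    intro m
    obtain ⟨y, hy⟩ := exists_of_functional h m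
    obtain ⟨c, hc⟩ := hx y (fun b => ⟨_, hy b⟩)
    refine ⟨c, ?_⟩
    apply Omega.ext
    ext z
    apply injective_AK h
    rw [Omega.smul_toLinearMap_apply, Omega.smul_toLinearMap_apply, hy]
    change algebraMap A K (Algebra.trace A B (c * z)) = _
    rw [← trace_algebraMap_of_free h, map_mul (algebraMap B L), hc, ← hb,
      map_mul (algebraMap B L)]
    congr 1
    ring
  · rintro ⟨b, hb, rfl⟩ y hy
    rw [SetLike.mem_coe, mem_different_iff] at hb
    obtain ⟨m, hm⟩ := exists_functional h y hy
    obtain ⟨c, hc⟩ := hb m
    refine ⟨c, ?_⟩
    apply ext_of_trace h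
    intro z
    rw [← map_mul, trace_algebraMap_of_free h]
    have h2 : (c • Omega.trace A B).toLinearMap z = (b • m).toLinearMap z := by rw [hc]
    rw [Omega.smul_toLinearMap_apply, Omega.smul_toLinearMap_apply] at h2
    change Algebra.trace A B (c * z) = _ at h2
    rw [h2, hm, map_mul (algebraMap B L)]
    congr 1
    simp only [Algebra.linearMap_apply]
    ring

end Ded

end K577.Dedekind
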