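import Groth.Agent.QFDual.K577.FlatBC
import Groth.Agent.QFDual.K577.Dedekind
import Mathlib.RingTheory.PicardGroup
import Mathlib.RingTheory.Ideal.Colon
import Mathlib.RingTheory.LocalRing.Module

/-!
# Base change of the different, finite free case
-/

set_option autoImplicit false
universe u

open TensorProduct Disc QFDual

namespace K577.DiffBC

open K577.QFBasic K577.Fac K577.FlatBC

section Ann

variable {R S : Type*} [CommRing R] [CommRing S] [Algebra R S] (M : Type*) [AddCommGroup M]
  [Module R M]

theorem map_annihilator_le : (Module.annihilator R M).map (algebraMap R S) ≤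
    Module.annihilator S (S ⊗[R] M) := by
  rw [Ideal.map_le_iff_le_comap]
  intro r hr
  rw [Ideal.mem_comap, Module.mem_annihilator]
  intro z
  induction z with
  | zero => rw [smul_zero]
  | add x y hx hy => rw [smul_add, hx, hy, add_zero]
  | tmul s m =>
    rw [algebraMap_smul, ← TensorProduct.tmul_smul, Module.mem_annihilator.1 hr, tmul_zero]

/-- Annihilators of finite modules commute with flat base change. -/
theorem annihilator_baseChange_of_flat [Module.Flat R S] [Module.Finite R M] :
    Module.annihilator S (S ⊗[R] M) = (Module.annihilator R M).map (algebraMap R S) := by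
  refine le_antisymm ?_ (map_annihilator_le M)
  intro s hs
  obtain ⟨n, m, hm⟩ := Module.Finite.exists_fin (R := R) (M := M)
  let f : R →ₗ[R] (Fin n → M) := LinearMap.pi fun i => LinearMap.toSpanSingleton R M (m i)
  have hker : ∀ r, r ∈ LinearMap.ker f ↔ r ∈ Module.annihilator R M := by
    intro r
    rw [LinearMap.mem_ker, Module.mem_annihilator]
    constructor
    · intro h x
      have hx : x ∈ Submodule.span R (Set.range m) := by rw [hm]; trivial
      induction hx using Submodule.span_induction with
      | mem y hy =>
        obtain ⟨i, rfl⟩ := hy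
        exact congrFun h i
      | zero => rw [smul_zero]
      | add y z _ _ hy hz => rw [smul_add, hy, hz, add_zero]
      | smul a y _ hy => rw [smul_comm, hy, smul_zero]
    · intro h
      funext i
      exact h _
  have hex : Function.Exact (LinearMap.ker f).subtype f := LinearMap.exact_subtype_ker_map f
  have hex2 := Module.Flat.lTensor_exact S hex
  have h1 : f.lTensor S (s ⊗ₜ 1) = 0 := by
    rw [LinearMap.lTensor_tmul]
    apply (TensorProduct.piRight R R S (fun _ : Fin n => M)).injective
    rw [map_zero]
    funext i
    have h2 : f 1 i = m i := by simp [f]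
    rw [TensorProduct.piRight_apply, TensorProduct.piRightHom_tmul]
    change s ⊗ₜ[R] f 1 i = 0
    rw [h2]
    have h3 := (Module.mem_annihilator.1 hs) (1 ⊗ₜ m i)
    rwa [TensorProduct.smul_tmul', smul_eq_mul, mul_one] at h3
  obtain ⟨w, hw⟩ := (hex2 _).1 h1
  have h4 : ∀ w : S ⊗[R] (LinearMap.ker f), TensorProduct.rid R S
      ((LinearMap.ker f).subtype.lTensor S w) ∈ (Module.annihilator R M).map (algebraMap R S) := by
    intro w
    induction w with
    | zero => rw [map_zero, map_zero]; exact Ideal.zero_mem _
    | add x y hx hy => rw [map_add, map_add]; exact Ideal.add_mem _ hx hy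
    | tmul a x =>
      rw [LinearMap.lTensor_tmul, TensorProduct.rid_tmul, Submodule.subtype_apply,
        Algebra.smul_def]
      exact Ideal.mul_mem_right _ _ (Ideal.mem_map_of_mem _ ((hker _).1 x.2))
  have h5 := h4 w
  rw [hw, TensorProduct.rid_tmul, one_smul] at h5
  exact h5

theorem nontrivial_of_nontrivial (K₁ K₂ : Type*) [Field K₁] [Field K₂] [Algebra R K₁] [Algebra R K₂]
    [Algebra K₁ K₂] [IsScalarTower R K₁ K₂] (h : Nontrivial (K₁ ⊗[R] M)) :
    Nontrivial (K₂ ⊗[R] M) := by
  have h2 : Nontrivial (K₂ ⊗[K₁] (K₁ ⊗[R] M)) := inferInstance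
  exact (AlgebraTensorModule.cancelBaseChange R K₁ K₁ K₂ M).symm.toEquiv.nontrivial

theorem eq_zero_of_mem_annihilator (K₂ : Type*) [Field K₂] [Algebra R K₂] [Algebra S K₂]
    [IsScalarTower R S K₂] (s : S) (hs : s ∈ Module.annihilator S (S ⊗[R] M))
    (hs0 : algebraMap S K₂ s ≠ 0) (z : K₂ ⊗[R] M) : z = 0 := by
  have h1 : ∀ z : K₂ ⊗[R] M, algebraMap S K₂ s • z = 0 := by
    intro z
    induction z with
    | zero => rw [smul_zero]
    | add x y hx hy => rw [smul_add, hx, hy, add_zero]
    | tmul a m =>
      have h2 := (Module.mem_annihilator.1 hs) (1 ⊗ₜ m)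
      rw [TensorProduct.smul_tmul', smul_eq_mul, mul_one] at h2
      let g : S ⊗[R] M →ₗ[R] K₂ ⊗[R] M :=
        (IsScalarTower.toAlgHom R S K₂).toLinearMap.rTensor M
      have h3 := congrArg g h2
      rw [map_zero] at h3
      have h4 : algebraMap S K₂ s ⊗ₜ[R] m = 0 := h3
      rw [TensorProduct.smul_tmul', smul_eq_mul, mul_comm, ← smul_eq_mul,
        ← TensorProduct.smul_tmul', h4, smul_zero]
  exact (smul_eq_zero.1 (h1 z)).resolve_left hs0

theorem nontrivial_residueField (P : Ideal R) [P.IsPrime] (Q : Ideal S) [Q.IsPrime]
    (hPQ : P = Q.comap (algebraMap R S)) (h : Nontrivial (P.ResidueField ⊗[R] M)) :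
    Nontrivial (Q.ResidueField ⊗[R] M) := by
  let a : Algebra P.ResidueField Q.ResidueField :=
    (Ideal.ResidueField.map P Q (algebraMap R S) hPQ).toAlgebra
  have : IsScalarTower R P.ResidueField Q.ResidueField := IsScalarTower.of_algebraMap_eq fun r => by
    rw [RingHom.algebraMap_toAlgebra, Ideal.ResidueField.map_algebraMap,
      ← IsScalarTower.algebraMap_apply]
  exact nontrivial_of_nontrivial M P.ResidueField Q.ResidueField h

theorem le_of_annihilator_le [Module.Finite R M] (Q : Ideal S) [Q.IsPrime]
    (hQ : (Module.annihilator R M).map (algebraMap R S) ≤ Q) :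
    Module.annihilator S (S ⊗[R] M) ≤ Q := by
  intro s hs
  by_contra hsQ
  have hP : Module.annihilator R M ≤ Q.comap (algebraMap R S) := Ideal.map_le_iff_le_comap.1 hQ
  have hsupp : (⟨Q.comap (algebraMap R S), inferInstance⟩ : PrimeSpectrum R) ∈
      Module.support R M := by
    rw [Module.support_eq_zeroLocus]
    exact hP
  have hnt := (Module.mem_support_iff_nontrivial_residueField_tensorProduct _).1 hsupp
  have hnt2 := nontrivial_residueField M _ Q rfl hnt
  obtain ⟨z, hz⟩ := exists_ne (0 : Q.ResidueField ⊗[R] M)
  exact hz (eq_zero_of_mem_annihilator M Q.ResidueField s hs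
    (fun h0 => hsQ (Ideal.algebraMap_residueField_eq_zero.1 h0)) z)

/-- Annihilators of finite modules commute with base change up to radical. -/
theorem radical_annihilator_baseChange [Module.Finite R M] :
    ((Module.annihilator R M).map (algebraMap R S)).radical =
      (Module.annihilator S (S ⊗[R] M)).radical := by
  apply le_antisymm (Ideal.radical_mono (map_annihilator_le M))
  rw [Ideal.radical_le_radical_iff, Ideal.radical_eq_sInf, le_sInf_iff]
  rintro Q ⟨hQ, hprime⟩
  exact le_of_annihilator_le M Q hQ

end Ann

section Diff

variable {A B A' B' : Type u} [CommRing A] [CommRing B] [CommRing A'] [CommRing B']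
  [Algebra A B] [Module.Finite A B] [Module.Free A B]
  [Algebra A A'] [Algebra B B'] [Algebra A' B'] [Algebra A B'] [IsScalarTower A A' B']
  [IsScalarTower A B B']

/-- The ideal of elements factoring through finite free modules is the unit ideal in the finite
free case. -/
theorem one_mem_facIdeal : (1 : B) ∈ facIdeal A B := by
  let b := Module.Free.chooseBasis A B
  let e := b.reindex (Fintype.equivFin _)
  refine ⟨_, e.equivFun.toLinearMap, e.equivFun.symm.toLinearMap, fun x => ?_⟩
  rw [one_mul]
  exact e.equivFun.symm_apply_apply x

theorem bcT_bijective_of_free (h : Algebra.IsPushout A A' B B') : Function.Bijective (bcT h) := by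
  obtain ⟨g, h1, h2⟩ := exists_section h 1 one_mem_facIdeal
  simp only [map_one, one_smul] at h1 h2
  exact ⟨Function.LeftInverse.injective h2, Function.RightInverse.surjective h1⟩

variable [Module.Finite A' B'] [Module.Free A' B']

theorem bcFin_trace (h : Algebra.IsPushout A A' B B') :
    bcFin h (Omega.trace A B) = Omega.trace A' B' := by
  apply Omega.ext
  apply h.out.algHom_ext
  intro x
  refine (bcFin_apply_algebraMap h (Omega.trace A B) x).trans ?_
  exact (Dedekind.trace_algebraMap h x).symm

/-- The quotient of `ω` by the trace. -/
abbrev Quo (A B : Type u) [CommRing A] [CommRing B] [Algebra A B] [Module.Finite A B]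
    [Module.Free A B] : Type u := Omega A B ⧸ Submodule.span B {Omega.trace A B}

theorem different_eq_annihilator (A B : Type u) [CommRing A] [CommRing B] [Algebra A B]
    [Module.Finite A B] [Module.Free A B] :
    different B (Omega.trace A B) = Module.annihilator B (Quo A B) :=
  (Submodule.annihilator_quotient).symm

theorem finite_omega : Module.Finite B (Omega A B) := by
  let _ := omegaModuleA A B
  have := omega_isScalarTower A B
  have h1 : Module.Finite A (B →ₗ[A] A) := inferInstance
  have : Module.Finite A (Omega A B) := Module.Finite.equiv (omegaEquivA A B).symm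
  exact Module.Finite.of_restrictScalars_finite A B _

/-- The different of the base change is the annihilator of the base change of `ω / Bτ`. -/
theorem different_eq_annihilator_baseChange (h : Algebra.IsPushout A A' B B') :
    different B' (Omega.trace A' B') = Module.annihilator B' (B' ⊗[B] Quo A B) := by
  let τ := Omega.trace A B
  let π : Omega A B →ₗ[B] Quo A B := (Submodule.span B {τ}).mkQ
  have hπ : Function.Surjective π := Submodule.mkQ_surjective _
  have hex : Function.Exact (LinearMap.toSpanSingleton B (Omega A B) τ) π := by
    rw [LinearMap.exact_iff, Submodule.ker_mkQ, LinearMap.range_toSpanSingleton]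
  have hex' := lTensor_exact B' hex hπ
  have hb := bcT_bijective_of_free h
  have hτ : bcT h (1 ⊗ₜ τ) = Omega.trace A' B' := by
    rw [bcT_tmul, one_smul, bcFin_trace]
  ext r
  rw [mem_different_iff, Module.mem_annihilator]
  constructor
  · intro hr z
    obtain ⟨w, rfl⟩ := (π.lTensor_surjective B' hπ) z
    obtain ⟨c, hc⟩ := hr (bcT h w)
    rw [← hτ, ← map_smul, ← map_smul] at hc
    have h1 := hb.1 hc
    have h2 : (π.lTensor B') (r • w) = r • (π.lTensor B') w := by
      have : (π.lTensor B') = (π.baseChange B').restrictScalars B := rfl
      rw [this]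
      exact (π.baseChange B').map_smul r w
    rw [← h2, ← h1, TensorProduct.smul_tmul', LinearMap.lTensor_tmul]
    have h3 : π τ = 0 := by
      rw [Submodule.mkQ_apply, Submodule.Quotient.mk_eq_zero]
      exact Submodule.mem_span_singleton_self τ
    rw [h3, tmul_zero]
  · intro hr m
    obtain ⟨w, rfl⟩ := hb.2 m
    have h1 : (π.lTensor B') (r • w) = 0 := by
      have h2 : (π.lTensor B') (r • w) = r • (π.lTensor B') w := by
        have : (π.lTensor B') = (π.baseChange B').restrictScalars B := rfl
        rw [this]
        exact (π.baseChange B').map_smul r w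
      rw [h2, hr]
    obtain ⟨y, hy⟩ := (hex' _).1 h1
    refine ⟨TensorProduct.rid B B' y, ?_⟩
    rw [← hτ, ← map_smul, ← map_smul, ← hy]
    congr 1
    clear hy h1
    induction y with
    | zero => rw [map_zero, map_zero, zero_smul]
    | add x y hx hy => rw [map_add, map_add, add_smul, hx, hy]
    | tmul b c =>
      rw [LinearMap.lTensor_tmul, TensorProduct.rid_tmul, LinearMap.toSpanSingleton_apply,
        TensorProduct.smul_tmul', tmul_smul, smul_tmul', smul_eq_mul, mul_one]

theorem map_different_le_and_radical_eq (h : Algebra.IsPushout A A' B B') :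
    Ideal.map (algebraMap B B') (different B (Omega.trace A B)) ≤
        different B' (Omega.trace A' B') ∧
      (Ideal.map (algebraMap B B') (different B (Omega.trace A B))).radical =
        (different B' (Omega.trace A' B')).radical := by
  have := finite_omega (A := A) (B := B)
  rw [different_eq_annihilator_baseChange h, different_eq_annihilator]
  exact ⟨map_annihilator_le _, radical_annihilator_baseChange _⟩

theorem map_different_eq_of_flat (h : Algebra.IsPushout A A' B B') [Module.Flat A A'] :
    Ideal.map (algebraMap B B') (different B (Omega.trace A B)) =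
        different B' (Omega.trace A' B') := by
  have := finite_omega (A := A) (B := B)
  have : Module.Flat B B' := Module.Flat.isBaseChange A B A' B' h.symm.out
  rw [different_eq_annihilator_baseChange h, different_eq_annihilator,
    annihilator_baseChange_of_flat]

/-- In an invertible module, `f x • y = f y • x`. -/
theorem invertible_smul_comm {R M : Type*} [CommRing R] [AddCommGroup M] [Module R M]
    [Module.Invertible R M] (f : M →ₗ[R] R) (x y : M) : f x • y = f y • x := by
  have h : x ⊗ₜ[R] y = y ⊗ₜ x := Module.Invertible.tmul_comm
  have h2 := congrArg (TensorProduct.lid R M ∘ f.rTensor M) h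
  simpa using h2

theorem map_different_eq_of_invertible (h : Algebra.IsPushout A A' B B')
    [Module.Invertible B (Omega A B)] :
    Ideal.map (algebraMap B B') (different B (Omega.trace A B)) =
        different B' (Omega.trace A' B') := by
  refine le_antisymm (map_different_le_and_radical_eq h).1 ?_
  intro r hr
  rw [mem_different_iff] at hr
  let τ := Omega.trace A B
  have hb := bcT_bijective_of_free h
  have hτ : bcT h (1 ⊗ₜ τ) = Omega.trace A' B' := by
    rw [bcT_tmul, one_smul, bcFin_trace]
  have hmem : ∀ f : Module.Dual B (Omega A B), f τ ∈ different B τ := by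
    intro f
    rw [mem_different_iff]
    intro m
    exact ⟨f m, invertible_smul_comm f m τ⟩
  obtain ⟨z, hz⟩ := (Module.Invertible.bijective (R := B) (M := Omega A B)).2 1
  have key : ∀ z : Module.Dual B (Omega A B) ⊗[B] Omega A B,
      r * algebraMap B B' (contractLeft B (Omega A B) z) ∈
        Ideal.map (algebraMap B B') (different B τ) := by
    intro z
    induction z with
    | zero => rw [map_zero, map_zero, mul_zero]; exact Ideal.zero_mem _
    | add x y hx hy => rw [map_add, map_add, mul_add]; exact Ideal.add_mem _ hx hy
    | tmul f m =>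
      obtain ⟨c, hc⟩ := hr (bcT h (1 ⊗ₜ m))
      rw [← hτ, ← map_smul, ← map_smul] at hc
      have h1 := hb.1 hc
      have h2 := congrArg (Module.Dual.baseChange B' f) h1
      simp only [map_smul, Module.Dual.baseChange_apply_tmul] at h2
      rw [contractLeft_apply]
      have h3 : r * algebraMap B B' (f m) = c * algebraMap B B' (f τ) := by
        simpa [Algebra.smul_def] using h2.symm
      rw [h3]
      exact Ideal.mul_mem_left _ _ (Ideal.mem_map_of_mem _ (hmem f))
  have := key z
  rwa [hz, map_one, mul_one] at this

end Diff

end K577.DiffBC
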