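import Groth.Agent.QFDual.K577.Basic
import Groth.Agent.QFDual.K577.Fac

/-!
# Base change of `ω_{B/A}` along an arbitrary `A → A₁` when `B` is flat over `A`
-/

set_option autoImplicit false
universe u v u' v'

open TensorProduct Disc

namespace K577.FlatBC

open K577.QFBasic K577.Fac

variable {A : Type u} {B' : Type v} {A₁ : Type u'} {B'₁ : Type v}
  [CommRing A] [CommRing B'] [CommRing A₁] [CommRing B'₁]
  [Algebra A B'] [Algebra A A₁] [Algebra B' B'₁] [Algebra A₁ B'₁] [Algebra A B'₁]
  [IsScalarTower A A₁ B'₁] [IsScalarTower A B' B'₁]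

/-- Multiplication by an element of `facIdeal` factors through the comparison map. -/
theorem exists_section (h : Algebra.IsPushout A A₁ B' B'₁) (s : B') (hs : s ∈ facIdeal A B') :
    ∃ g : Omega A₁ B'₁ → B'₁ ⊗[B'] Omega A B',
      (∀ y, bcT h (g y) = algebraMap B' B'₁ s • y) ∧
      (∀ x, g (bcT h x) = algebraMap B' B'₁ s • x) := by
  obtain ⟨n, p, q, hpq⟩ := hs
  classical
  let v : Fin n → B' := fun i => q (Pi.single i 1)
  let w : Fin n → Omega A B' := fun i => ⟨LinearMap.proj i ∘ₗ p⟩
  have hsum : ∀ x : B', ∑ i, (w i).toLinearMap x • v i = s * x := by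
    intro x
    rw [← hpq x]
    conv_rhs => rw [LinearMap.pi_apply_eq_sum_univ q (p x)]
    refine Finset.sum_congr rfl fun i _ => ?_
    have h1 : (Pi.single i 1 : Fin n → A) = fun j => if i = j then 1 else 0 := by
      funext j
      rw [Pi.single_apply]
      simp only [eq_comm]
    change p x i • q (Pi.single i 1) = _
    rw [h1]
  have hsumΩ : ∀ ψ : Omega A B', ∑ i, algebraMap A B' (ψ.toLinearMap (v i)) • w i = s • ψ := by
    intro ψ
    apply Omega.ext
    ext x
    rw [Omega.smul_toLinearMap_apply, ← hsum x, map_sum]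
    have : ∀ (t : Finset (Fin n)) (f : Fin n → Omega A B'),
        (∑ i ∈ t, f i).toLinearMap x = ∑ i ∈ t, (f i).toLinearMap x := by
      intro t f
      induction t using Finset.induction_on with
      | empty => simp
      | insert a t ha ih => rw [Finset.sum_insert ha, Finset.sum_insert ha, Omega.add_toLinearMap,
          LinearMap.add_apply, ih]
    rw [this]
    refine Finset.sum_congr rfl fun i _ => ?_
    rw [Omega.smul_toLinearMap_apply, ← Algebra.smul_def, map_smul, map_smul, smul_eq_mul,
      smul_eq_mul, mul_comm]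
  let g : Omega A₁ B'₁ → B'₁ ⊗[B'] Omega A B' := fun φ =>
    ∑ i, algebraMap A₁ B'₁ (φ.toLinearMap (algebraMap B' B'₁ (v i))) ⊗ₜ w i
  refine ⟨g, fun y => ?_, fun x => ?_⟩
  · apply Omega.ext
    apply h.out.algHom_ext
    intro x
    change (bcT h (g y)).toLinearMap (algebraMap B' B'₁ x) =
      (algebraMap B' B'₁ s • y).toLinearMap (algebraMap B' B'₁ x)
    rw [map_sum, Omega.smul_toLinearMap_apply, ← map_mul, ← hsum x, map_sum, map_sum]
    have : ∀ (t : Finset (Fin n)) (f : Fin n → Omega A₁ B'₁) (z : B'₁),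
        (∑ i ∈ t, f i).toLinearMap z = ∑ i ∈ t, (f i).toLinearMap z := by
      intro t f z
      induction t using Finset.induction_on with
      | empty => simp
      | insert a t ha ih => rw [Finset.sum_insert ha, Finset.sum_insert ha, Omega.add_toLinearMap,
          LinearMap.add_apply, ih]
    rw [this]
    refine Finset.sum_congr rfl fun i _ => ?_
    rw [bcT_tmul, Omega.smul_toLinearMap_apply, ← Algebra.smul_def, map_smul,
      QFDual.bcFin_apply_algebraMap, smul_eq_mul, Algebra.smul_def, map_mul,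
      ← IsScalarTower.algebraMap_apply, IsScalarTower.algebraMap_apply A A₁ B'₁,
      ← Algebra.smul_def, map_smul, smul_eq_mul, mul_comm]
  · have hg_add : ∀ y z, g (y + z) = g y + g z := by
      intro y z
      simp only [g, Omega.add_toLinearMap, LinearMap.add_apply, map_add, TensorProduct.add_tmul,
        Finset.sum_add_distrib]
    have hg_zero : g 0 = 0 := by
      simp [g]
    have hg_smul : ∀ (a : A₁) y, g (algebraMap A₁ B'₁ a • y) = algebraMap A₁ B'₁ a • g y := by
      intro a y
      simp only [g, Finset.smul_sum]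
      refine Finset.sum_congr rfl fun i _ => ?_
      rw [Omega.smul_toLinearMap_apply, ← Algebra.smul_def, map_smul, smul_eq_mul, map_mul,
        TensorProduct.smul_tmul', smul_eq_mul]
    have hg_one : ∀ ψ : Omega A B', g (QFDual.bcFin h ψ) =
        algebraMap B' B'₁ s • ((1 : B'₁) ⊗ₜ[B'] ψ) := by
      intro ψ
      simp only [g]
      rw [algebraMap_smul, ← TensorProduct.tmul_smul, ← hsumΩ ψ, TensorProduct.tmul_sum]
      refine Finset.sum_congr rfl fun i _ => ?_
      rw [QFDual.bcFin_apply_algebraMap, ← IsScalarTower.algebraMap_apply,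
        IsScalarTower.algebraMap_apply A B' B'₁, TensorProduct.tmul_smul,
        TensorProduct.smul_tmul', Algebra.smul_def, mul_one]
    induction x with
    | zero => rw [map_zero, hg_zero, smul_zero]
    | add x y hx hy => rw [map_add, hg_add, hx, hy, smul_add]
    | tmul b ψ =>
      have key : ∀ b : B'₁, g (bcT h (b ⊗ₜ ψ)) = algebraMap B' B'₁ s • (b ⊗ₜ ψ) := by
        intro b
        -- `B'₁` is generated over `A₁` by the image of `B'`
        refine h.out.inductionOn b _ ?_ ?_ ?_ ?_
        · rw [TensorProduct.zero_tmul, map_zero, hg_zero, smul_zero]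
        · intro c
          change g (bcT h ((algebraMap B' B'₁ c) ⊗ₜ ψ)) =
            algebraMap B' B'₁ s • ((algebraMap B' B'₁ c) ⊗ₜ ψ)
          have : (algebraMap B' B'₁ c) ⊗ₜ[B'] ψ = (1 : B'₁) ⊗ₜ[B'] (c • ψ) := by
            rw [TensorProduct.tmul_smul, TensorProduct.smul_tmul', Algebra.smul_def, mul_one]
          rw [this, bcT_tmul, one_smul, hg_one]
        · intro a b hb
          rw [Algebra.smul_def]
          have : (algebraMap A₁ B'₁ a * b) ⊗ₜ[B'] ψ = algebraMap A₁ B'₁ a • (b ⊗ₜ[B'] ψ) := by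
            rw [TensorProduct.smul_tmul', smul_eq_mul]
          rw [this, map_smul, hg_smul, hb, smul_comm]
        · intro b c hb hc
          rw [TensorProduct.add_tmul, map_add, hg_add, hb, hc, smul_add]
      exact key b

end K577.FlatBC

namespace K577.FlatBC

open K577.QFBasic K577.Fac

variable {A B' B A₁ B'₁ B₁ : Type u} [CommRing A] [CommRing B'] [CommRing B] [CommRing A₁]
  [CommRing B'₁] [CommRing B₁] [Algebra A B'] [Algebra B' B] [Algebra A B] [IsScalarTower A B' B]
  [Algebra A A₁] [Algebra B' B'₁] [Algebra A₁ B'₁]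
  [Algebra A B'₁] [IsScalarTower A A₁ B'₁] [IsScalarTower A B' B'₁]
  [Algebra B B₁] [Algebra A₁ B₁] [Algebra A B₁]
  [IsScalarTower A A₁ B₁] [IsScalarTower A B B₁]
  [Algebra B'₁ B₁] [Algebra B' B₁] [IsScalarTower B' B'₁ B₁] [IsScalarTower B' B B₁]
  [IsScalarTower A₁ B'₁ B₁]

theorem isPushout_right (h : Algebra.IsPushout A A₁ B' B'₁) (hB : Algebra.IsPushout A A₁ B B₁) :
    Algebra.IsPushout B' B B'₁ B₁ := by
  have h1 := h.symm
  have : IsScalarTower A B'₁ B₁ := IsScalarTower.of_algebraMap_eq fun x => by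
    rw [IsScalarTower.algebraMap_apply A A₁ B'₁, ← IsScalarTower.algebraMap_apply A₁ B'₁ B₁,
      ← IsScalarTower.algebraMap_apply A A₁ B₁]
  exact (Algebra.IsPushout.comp_iff A B' A₁ (S' := B'₁) (T := B) (T' := B₁)).1 hB.symm

theorem omegaBC_bijective_of_flat [Module.FinitePresentation A B'] [Module.Flat A B]
    (ho : AlgebraicGeometry.IsOpenImmersion
      (AlgebraicGeometry.Spec.map (CommRingCat.ofHom (algebraMap B' B))))
    (h : Algebra.IsPushout A A₁ B' B'₁) (hB : Algebra.IsPushout A A₁ B B₁) :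
    Function.Bijective (QFDual.omegaBC (B₁ := B₁) h) := by
  rw [omegaBC_bijective_iff]
  have hflat : Module.Flat B' B := flat_of_isOpenImmersion ho
  have hP : Algebra.IsPushout B' B B'₁ B₁ := isPushout_right h hB
  have hflat₁ : Module.Flat B'₁ B₁ := Module.Flat.isBaseChange B' B'₁ B B₁ hP.symm.out
  refine baseChange_bijective_of_kills (S := B₁) (bcT h)
    (algebraMap B' B'₁ '' (facIdeal A B' : Set B')) ?_ ?_ ?_
  · have h1 := map_facIdeal_eq_top (A := A) ho
    have h2 : ((facIdeal A B').map (algebraMap B' B)).map (algebraMap B B₁) = ⊤ := by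
      rw [h1, Ideal.map_top]
    rw [Ideal.map_map, ← IsScalarTower.algebraMap_eq, IsScalarTower.algebraMap_eq B' B'₁ B₁] at h2
    rw [← Set.image_comp, ← RingHom.coe_comp]
    exact h2
  · rintro _ ⟨s, hs, rfl⟩ x hx
    obtain ⟨g, _, hg⟩ := exists_section h s hs
    have h1 := hg x
    have h2 := hg 0
    rw [hx] at h1
    rw [map_zero, smul_zero] at h2
    rw [← h1, h2]
  · rintro _ ⟨s, hs, rfl⟩ y
    obtain ⟨g, hg, _⟩ := exists_section h s hs
    exact ⟨g y, hg y⟩

end K577.FlatBC
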