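import Groth.Prelude.Def_RegImm
import Groth.Prelude.Def_CAlg
import Groth.Agent.Models.CMSeq
import Groth.Agent.Localalg.ExtLift
import Groth.Agent.S0342
import Groth.Agent.S0209
import Mathlib.RingTheory.RegularLocalRing.Polynomial
import Mathlib.Algebra.Category.ModuleCat.InjectiveDimension
import Mathlib.RingTheory.Localization.LocalizationLocalization
import Mathlib.RingTheory.Localization.Algebra
import Mathlib.RingTheory.RingHom.Surjective
import Mathlib.RingTheory.KrullDimension.Zero
import Mathlib.RingTheory.Artinian.Ring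

/-!
# Zero-dimensional complete intersections over a field are Gorenstein
-/

set_option autoImplicit false
universe u

open CategoryTheory IsLocalRing

namespace K577.GorCI

section Transfer

attribute [local instance] RingHomInvPair.of_ringEquiv

theorem isGorensteinLocalRing_of_ringEquiv {A B : Type u} [CommRing A] [CommRing B] (e : A ≃+* B)
    (h : LocCoh.IsGorensteinLocalRing A) : LocCoh.IsGorensteinLocalRing B := by
  have hN : IsNoetherianRing B := isNoetherianRing_of_ringEquiv A e
  have hL : IsLocalRing B := e.isLocalRing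
  refine { exists_hasInjectiveDimensionLT := ?_ }
  obtain ⟨n, hn⟩ := h.exists_hasInjectiveDimensionLT
  have hn' : HasInjectiveDimensionLE (ModuleCat.of A A) n :=
    hasInjectiveDimensionLT_of_ge _ n (n + 1) (by lia)
  refine ⟨n + 1, ?_⟩
  let eM : ModuleCat.of A A ≃ₛₗ[RingHomClass.toRingHom e] ModuleCat.of B B :=
    { (e : A ≃+ B) with
      map_smul' := fun r x => by simp }
  exact (ModuleCat.hasInjectiveDimensionLE_iff_of_semiLinearEquiv e eM n).1 hn'

end Transfer

/-- `n` elements of a maximal ideal `Q` of `k[x_1, …, x_n]` cutting out an Artinian local ring. -/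
theorem isGorensteinLocalRing_quotient {k : Type u} [Field k] {n : ℕ}
    (r : Fin n → MvPolynomial (Fin n) k) (Q : Ideal (MvPolynomial (Fin n) k)) [hQ : Q.IsMaximal]
    (hr : ∀ i, r i ∈ Q)
    (hdim : ringKrullDim (Localization.AtPrime Q ⧸ Ideal.span (Set.range fun i =>
      algebraMap (MvPolynomial (Fin n) k) (Localization.AtPrime Q) (r i))) ≤ 0) :
    LocCoh.IsGorensteinLocalRing (Localization.AtPrime Q ⧸ Ideal.span (Set.range fun i =>
      algebraMap (MvPolynomial (Fin n) k) (Localization.AtPrime Q) (r i))) := by
  let R := Localization.AtPrime Q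
  let f : Fin n → R := fun i => algebraMap _ R (r i)
  have hreg : IsRegularLocalRing R := IsRegularRing.isRegularLocalRing_localization Q
  have hgor : LocCoh.IsGorensteinLocalRing R := Groth.Agent.S0342.result R
  have hd : ringKrullDim R = n := by
    rw [IsLocalization.AtPrime.ringKrullDim_eq_height Q R,
      Groth.Agent.S0209.height_eq_of_isMaximal k n Q]
    rfl
  have hmem : ∀ i, f i ∈ maximalIdeal R := fun i =>
    (IsLocalization.AtPrime.to_map_mem_maximal_iff R Q (r i)).2 (hr i)
  have hmem' : ∀ x ∈ List.ofFn f, x ∈ maximalIdeal R := by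
    intro x hx
    obtain ⟨i, rfl⟩ := List.mem_ofFn.1 hx
    exact hmem i
  have h1 : RingTheory.Sequence.IsRegular R (List.ofFn f) := by
    refine Groth.Agent.Models.CMSeq.isRegular_of_ringKrullDim_le (List.ofFn f) hmem' ?_
    rw [← Groth.Agent.Localalg.ExtLift.span_range_eq_ofList, hd, List.length_ofFn]
    calc ringKrullDim (R ⧸ Ideal.span (Set.range f)) + (n : WithBot ℕ∞) ≤ 0 + n := by
          gcongr
      _ = n := zero_add _
  exact (Groth.Agent.Localalg.ExtLift.gorenstein_quotient f h1.toIsWeaklyRegular hmem).1

theorem isGorensteinLocalRing_of_isGlobalCI (k T : Type u) [Field k] [CommRing T] [Algebra k T]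
    (h : Synt.IsGlobalCI k T) [IsArtinianRing T] (q : Ideal T) [hq : q.IsPrime] :
    LocCoh.IsGorensteinLocalRing (Localization.AtPrime q) := by
  have hnt : Nontrivial T :=
    ⟨⟨0, 1, fun h0 => hq.ne_top ((Ideal.eq_top_iff_one q).2 (h0 ▸ q.zero_mem))⟩⟩
  rcases h with h | ⟨n, c, hcn, φ, r, hφ, hker, hdim⟩
  · exact absurd h (not_subsingleton T)
  have hnc : c = n := by
    have h0 : ringKrullDim T = 0 := ringKrullDimZero_iff_ringKrullDim_eq_zero.1
      (isArtinianRing_iff_isNoetherianRing_krullDimLE_zero.1 inferInstance).2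
    rw [h0] at hdim
    have h1 : 0 = n - c := by exact_mod_cast hdim
    omega
  subst hnc
  have hqm : q.IsMaximal := inferInstance
  let Q := q.comap φ.toRingHom
  have hQ : Q.IsMaximal := Ideal.comap_isMaximal_of_surjective _ hφ
  have hr : ∀ i, r i ∈ Q := fun i => by
    have : r i ∈ RingHom.ker φ.toRingHom := by
      rw [hker]
      exact Ideal.subset_span ⟨i, rfl⟩
    rw [Ideal.mem_comap, (RingHom.mem_ker).1 this]
    exact q.zero_mem
  let Ψ : Localization.AtPrime Q →+* Localization.AtPrime q :=
    Localization.localRingHom Q q φ.toRingHom rfl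
  have hΨs : Function.Surjective Ψ := RingHom.surjective_localRingHom_of_surjective φ.toRingHom hφ q
  have hM : Submonoid.map φ.toRingHom Q.primeCompl = q.primeCompl :=
    Submonoid.map_comap_eq_of_surjective hφ q.primeCompl
  have hΨk : RingHom.ker Ψ = Ideal.span (Set.range fun i =>
      algebraMap (MvPolynomial (Fin c) k) (Localization.AtPrime Q) (r i)) := by
    have h1 := IsLocalization.ker_map (S := Localization.AtPrime Q) (Localization.AtPrime q)
      φ.toRingHom hM
    refine Eq.trans h1 ?_
    rw [hker, Ideal.map_span, ← Set.range_comp]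
    rfl
  have hart : IsArtinianRing (Localization.AtPrime q) :=
    inferInstance
  let e : (Localization.AtPrime Q ⧸ Ideal.span (Set.range fun i =>
      algebraMap (MvPolynomial (Fin c) k) (Localization.AtPrime Q) (r i))) ≃+*
      Localization.AtPrime q :=
    (Ideal.quotEquivOfEq hΨk.symm).trans (RingHom.quotientKerEquivOfSurjective hΨs)
  refine isGorensteinLocalRing_of_ringEquiv e (isGorensteinLocalRing_quotient r Q hr ?_)
  rw [ringKrullDim_eq_of_ringEquiv e]
  exact le_of_eq (ringKrullDimZero_iff_ringKrullDim_eq_zero.1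
      (isArtinianRing_iff_isNoetherianRing_krullDimLE_zero.1 hart).2)

end K577.GorCI
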