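import Groth.Agent.QFDual.K577.OmegaFlat

/-!
# Invertibility of the relative dualizing module is a fibrewise condition
-/

set_option autoImplicit false
universe u

open TensorProduct Disc QFDual

namespace K577.InvFib

open K577.QFBasic K577.Fac K577.FlatBC K577.OmegaFlat K577.InvLoc

attribute [local instance] omegaModuleA omega_isScalarTower

section Down

variable {A B' B A₁ B'₁ B₁ : Type u} [CommRing A] [CommRing B'] [CommRing B] [CommRing A₁]
  [CommRing B'₁] [CommRing B₁] [Algebra A B'] [Algebra B' B] [Algebra A B] [IsScalarTower A B' B]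
  [Algebra A A₁] [Algebra B' B'₁] [Algebra A₁ B'₁]
  [Algebra A B'₁] [IsScalarTower A A₁ B'₁] [IsScalarTower A B' B'₁]
  [Algebra B B₁] [Algebra A₁ B₁] [Algebra A B₁]
  [IsScalarTower A A₁ B₁] [IsScalarTower A B B₁]
  [Algebra B'₁ B₁] [Algebra B' B₁] [IsScalarTower B' B'₁ B₁] [IsScalarTower B' B B₁]
  [IsScalarTower A₁ B'₁ B₁]

/-- `ω_{B/A}` invertible implies `ω_{B₁/A₁}` invertible. -/
theorem invertible_baseChange [Module.FinitePresentation A B'] [Module.Flat A B]
    (ho : AlgebraicGeometry.IsOpenImmersion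
      (AlgebraicGeometry.Spec.map (CommRingCat.ofHom (algebraMap B' B))))
    (h : Algebra.IsPushout A A₁ B' B'₁) (hB : Algebra.IsPushout A A₁ B B₁)
    (hi : Module.Invertible B (omega A B' B)) : Module.Invertible B₁ (omega A₁ B'₁ B₁) := by
  have h1 := omegaBC_bijective_of_flat ho h hB
  have h2 : Module.Invertible B₁ (B₁ ⊗[B] omega A B' B) := inferInstance
  have h3 : Module.Invertible B₁ (omega A B' B₁) :=
    Module.Invertible.congr (AlgebraTensorModule.cancelBaseChange B' B B₁ B₁ (Omega A B'))
  exact Module.Invertible.congr (LinearEquiv.ofBijective _ h1)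

/-- `ω_{B₁/A₁}` invertible implies `B₁ ⊗ ω_{B/A}` invertible. -/
theorem invertible_tensor [Module.FinitePresentation A B'] [Module.Flat A B]
    (ho : AlgebraicGeometry.IsOpenImmersion
      (AlgebraicGeometry.Spec.map (CommRingCat.ofHom (algebraMap B' B))))
    (h : Algebra.IsPushout A A₁ B' B'₁) (hB : Algebra.IsPushout A A₁ B B₁)
    (hi : Module.Invertible B₁ (omega A₁ B'₁ B₁)) : Module.Invertible B₁ (B₁ ⊗[B'] Omega A B') :=
  Module.Invertible.congr (LinearEquiv.ofBijective _ (omegaBC_bijective_of_flat ho h hB)).symm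

end Down

section Local

variable {A B' B L k F B₁ : Type u} [CommRing A] [CommRing B'] [CommRing B] [CommRing L]
  [IsLocalRing L] [IsNoetherianRing L] [Field k] [CommRing F] [CommRing B₁]
  [Algebra A B'] [Algebra B' B]
  [Algebra B L] [Algebra B' L] [Algebra A L] [IsScalarTower B' B L] [IsScalarTower A B' L]
  [Algebra A k] [Algebra L F] [Algebra k F] [Algebra A F] [IsScalarTower A L F] [IsScalarTower A k F]
  [Algebra k (IsLocalRing.ResidueField L)] [IsScalarTower A k (IsLocalRing.ResidueField L)]
  [Algebra B' B₁] [Algebra B₁ F] [Algebra B' F] [IsScalarTower B' B₁ F] [IsScalarTower B' L F]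

theorem nonempty_localization [IsNoetherianRing A] [Module.Finite A B'] [Module.Flat B' L]
    (hfac : Ideal.span (algebraMap B' L '' (facIdeal A B' : Set B')) = ⊤)
    (hF : Algebra.IsPushout A k L F)
    (h : Module.Invertible B₁ (B₁ ⊗[B'] Omega A B')) :
    Nonempty (L ≃ₗ[L] L ⊗[B] omega A B' B) := by
  have : Module.Finite B' (Omega A B') := OmegaFlat.finite_omega
  have hfl : Module.Flat A (L ⊗[B'] Omega A B') :=
    flat_of_fac (A := A) (facIdeal A B' : Set B') hfac (fun s hs => omega_fac s hs)
  have h1 : Module.Invertible F (F ⊗[B₁] (B₁ ⊗[B'] Omega A B')) := inferInstance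
  have h2 : Module.Invertible F (F ⊗[B'] Omega A B') :=
    Module.Invertible.congr (AlgebraTensorModule.cancelBaseChange B' B₁ F F (Omega A B'))
  have h3 : Module.Invertible F (F ⊗[L] (L ⊗[B'] Omega A B')) :=
    Module.Invertible.congr (AlgebraTensorModule.cancelBaseChange B' L F F (Omega A B')).symm
  obtain ⟨e⟩ := nonempty_linearEquiv (A := A) (L := L) (k := k) (F := F)
    (M := L ⊗[B'] Omega A B') hF h3
  exact ⟨e ≪≫ₗ (AlgebraTensorModule.cancelBaseChange B' B L L (Omega A B')).symm⟩

end Local

section Main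

attribute [local instance] Algebra.TensorProduct.rightAlgebra

variable (A B' B : Type u) [CommRing A] [CommRing B'] [CommRing B] [Algebra A B'] [Algebra B' B]
  [Algebra A B] [IsScalarTower A B' B]

/-- The map `k ⊗ B' → k ⊗ B`. -/
noncomputable def mapAlg (k B' B : Type u) [CommRing k] [Algebra A k] [CommRing B'] [CommRing B]
    [Algebra A B'] [Algebra B' B] [Algebra A B] [IsScalarTower A B' B] :
    k ⊗[A] B' →ₐ[k] k ⊗[A] B :=
  Algebra.TensorProduct.map (AlgHom.id k k) (IsScalarTower.toAlgHom A B' B)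

theorem invertible_of_forall_fibre [IsNoetherianRing A] [IsNoetherianRing B] [Module.Flat A B]
    (hf : IsQFFactor A B' B)
    (H : ∀ (p : Ideal A) [p.IsPrime] (B'₁ B₁ : Type u) [CommRing B'₁] [CommRing B₁]
      [Algebra B' B'₁] [Algebra p.ResidueField B'₁] [Algebra A B'₁]
      [IsScalarTower A p.ResidueField B'₁] [IsScalarTower A B' B'₁] [Algebra B B₁]
      [Algebra p.ResidueField B₁] [Algebra A B₁] [IsScalarTower A p.ResidueField B₁]
      [IsScalarTower A B B₁] [Algebra B'₁ B₁] [Algebra B' B₁] [IsScalarTower B' B'₁ B₁]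
      [IsScalarTower B' B B₁] [IsScalarTower p.ResidueField B'₁ B₁],
      Algebra.IsPushout A p.ResidueField B' B'₁ → Algebra.IsPushout A p.ResidueField B B₁ →
        Module.Invertible B₁ (omega p.ResidueField B'₁ B₁)) :
    Module.Invertible B (omega A B' B) := by
  have := hf.finite
  have : Module.FinitePresentation A B' := Module.finitePresentation_of_finite A B'
  have : IsNoetherianRing B' := IsNoetherianRing.of_finite A B'
  have : Module.Finite B' (Omega A B') := OmegaFlat.finite_omega
  have : Module.FinitePresentation B (omega A B' B) :=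
    Module.finitePresentation_of_finite B _
  refine invertible_of_forall_maximal fun q hq => ?_
  let p := q.comap (algebraMap A B)
  let k := p.ResidueField
  let L := Localization.AtPrime q
  -- the fibre rings
  let i₁ : Algebra (k ⊗[A] B') (k ⊗[A] B) := (mapAlg A k B' B).toRingHom.toAlgebra
  let i₂ : Algebra B' (k ⊗[A] B) := ((algebraMap B (k ⊗[A] B)).comp (algebraMap B' B)).toAlgebra
  have t₁ : IsScalarTower B' B (k ⊗[A] B) := IsScalarTower.of_algebraMap_eq fun _ => rfl
  have t₂ : IsScalarTower B' (k ⊗[A] B') (k ⊗[A] B) := IsScalarTower.of_algebraMap_eq fun x => by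
    change (1 : k) ⊗ₜ[A] algebraMap B' B x = mapAlg A k B' B ((1 : k) ⊗ₜ[A] x)
    simp [mapAlg]
  have t₃ : IsScalarTower k (k ⊗[A] B') (k ⊗[A] B) := IsScalarTower.of_algebraMap_eq fun x =>
    ((mapAlg A k B' B).commutes x).symm
  have h1 : Algebra.IsPushout A k B' (k ⊗[A] B') := inferInstance
  have h2 : Algebra.IsPushout A k B (k ⊗[A] B) := inferInstance
  have h3 := H p (k ⊗[A] B') (k ⊗[A] B) h1 h2
  have h4 : Module.Invertible (k ⊗[A] B) ((k ⊗[A] B) ⊗[B'] Omega A B') :=
    invertible_tensor hf.isOpenImmersion h1 h2 h3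
  -- the localization
  have t₄ : IsScalarTower B' B L := inferInstance
  have t₅ : IsScalarTower A B' L := IsScalarTower.of_algebraMap_eq fun x => by
    rw [IsScalarTower.algebraMap_apply B' B L, ← IsScalarTower.algebraMap_apply A B' B,
      ← IsScalarTower.algebraMap_apply]
  let i₄ : Algebra (k ⊗[A] B) (k ⊗[A] L) := (mapAlg A k B L).toRingHom.toAlgebra
  let i₅ : Algebra B' (k ⊗[A] L) := ((algebraMap L (k ⊗[A] L)).comp (algebraMap B' L)).toAlgebra
  have t₆ : IsScalarTower B' L (k ⊗[A] L) := IsScalarTower.of_algebraMap_eq fun _ => rfl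
  have t₇ : IsScalarTower B' (k ⊗[A] B) (k ⊗[A] L) := IsScalarTower.of_algebraMap_eq fun x => by
    change (1 : k) ⊗ₜ[A] algebraMap B' L x =
      mapAlg A k B L ((1 : k) ⊗ₜ[A] algebraMap B' B x)
    simp [mapAlg, IsScalarTower.algebraMap_apply B' B L]
  let i₆ : Algebra k (IsLocalRing.ResidueField L) :=
    (Ideal.ResidueField.map p q (algebraMap A B) rfl).toAlgebra
  have t₈ : IsScalarTower A k (IsLocalRing.ResidueField L) :=
    IsScalarTower.of_algebraMap_eq fun x => by
      have h5 := Ideal.ResidueField.map_algebraMap p q (algebraMap A B) rfl x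
      refine Eq.trans ?_ h5.symm
      exact IsScalarTower.algebraMap_apply A B q.ResidueField x
  have hflat : Module.Flat B' B := flat_of_isOpenImmersion hf.isOpenImmersion
  have hflat' : Module.Flat B' L := Module.Flat.trans B' B L
  have hfac : Ideal.span (algebraMap B' L '' (facIdeal A B' : Set B')) = ⊤ := by
    have h6 := map_facIdeal_eq_top (A := A) hf.isOpenImmersion
    have h7 : ((facIdeal A B').map (algebraMap B' B)).map (algebraMap B L) = ⊤ := by
      rw [h6, Ideal.map_top]
    rw [Ideal.map_map, ← IsScalarTower.algebraMap_eq] at h7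
    exact h7
  have h8 : Algebra.IsPushout A k L (k ⊗[A] L) := inferInstance
  obtain ⟨e⟩ := nonempty_localization (A := A) (B' := B') (B := B) (L := L) (k := k)
    (F := k ⊗[A] L) (B₁ := k ⊗[A] B) hfac h8 h4
  exact Module.Invertible.congr e

theorem invertible_iff [IsNoetherianRing A] [IsNoetherianRing B] [Module.Flat A B]
    (hf : IsQFFactor A B' B) :
    Module.Invertible B (omega A B' B) ↔
    ∀ (p : Ideal A) [p.IsPrime] (B'₁ B₁ : Type u) [CommRing B'₁] [CommRing B₁]
      [Algebra B' B'₁] [Algebra p.ResidueField B'₁] [Algebra A B'₁]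
      [IsScalarTower A p.ResidueField B'₁] [IsScalarTower A B' B'₁] [Algebra B B₁]
      [Algebra p.ResidueField B₁] [Algebra A B₁] [IsScalarTower A p.ResidueField B₁]
      [IsScalarTower A B B₁] [Algebra B'₁ B₁] [Algebra B' B₁] [IsScalarTower B' B'₁ B₁]
      [IsScalarTower B' B B₁] [IsScalarTower p.ResidueField B'₁ B₁],
      Algebra.IsPushout A p.ResidueField B' B'₁ → Algebra.IsPushout A p.ResidueField B B₁ →
        Module.Invertible B₁ (omega p.ResidueField B'₁ B₁) := by
  refine ⟨fun h p _ B'₁ B₁ _ _ _ _ _ _ _ _ _ _ _ _ _ _ _ _ _ h1 h2 => ?_,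
    invertible_of_forall_fibre A B' B hf⟩
  have := hf.finite
  have : Module.FinitePresentation A B' := Module.finitePresentation_of_finite A B'
  exact invertible_baseChange hf.isOpenImmersion h1 h2 h

end Main

end K577.InvFib
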