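import Groth.Agent.Sga4B.InvLocal
import Mathlib.RingTheory.PicardGroup
import Mathlib.RingTheory.LocalProperties.Submodule
import Mathlib.Algebra.Module.FinitePresentation
import Mathlib.RingTheory.LocalRing.Module
import Mathlib.RingTheory.Flat.Equalizer
import Mathlib.RingTheory.Localization.BaseChange
import Mathlib.LinearAlgebra.Dual.BaseChange
import Mathlib.RingTheory.LocalRing.ResidueField.Basic

/-!
# Invertibility of finitely presented modules is local, and a fibre criterion
-/

set_option autoImplicit false
universe u

open TensorProduct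

namespace K577.InvLoc

/-- In an invertible module, `f x • y = f y • x`. -/
theorem invertible_smul_comm {R M : Type*} [CommRing R] [AddCommGroup M] [Module R M]
    [Module.Invertible R M] (f : M →ₗ[R] R) (x y : M) : f x • y = f y • x := by
  have h : x ⊗ₜ[R] y = y ⊗ₜ x := Module.Invertible.tmul_comm
  have h2 := congrArg (TensorProduct.lid R M ∘ f.rTensor M) h
  simpa using h2

section

variable {R N : Type*} [CommRing R] [AddCommGroup N] [Module R N]

/-- A sum of non-units in a local ring is a non-unit: some term of a unit value is a unit. -/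
theorem exists_isUnit_apply {L M : Type*} [CommRing L] [IsLocalRing L] [AddCommGroup M] [Module L M]
    (h : Module.Invertible L M) : ∃ (f : M →ₗ[L] L) (y : M), IsUnit (f y) := by
  by_contra hcon
  push Not at hcon
  have h1 : ∀ w : Module.Dual L M ⊗[L] M, contractLeft L M w ∈ IsLocalRing.maximalIdeal L := by
    intro w
    induction w with
    | zero => rw [map_zero]; exact Ideal.zero_mem _
    | add x y hx hy => rw [map_add]; exact Ideal.add_mem _ hx hy
    | tmul f y =>
      rw [contractLeft_apply]
      exact hcon f y
  obtain ⟨w, hw⟩ := (Module.Invertible.bijective (R := L) (M := M)).2 1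
  have h2 := h1 w
  rw [hw] at h2
  exact (Ideal.ne_top_iff_one _).1 (IsLocalRing.maximalIdeal.isMaximal L).ne_top h2

/-- Invertibility of a finitely presented module can be checked at the maximal ideals. -/
theorem invertible_of_forall_maximal [Module.FinitePresentation R N]
    (h : ∀ (q : Ideal R) [q.IsMaximal],
      Module.Invertible (Localization.AtPrime q) (Localization.AtPrime q ⊗[R] N)) :
    Module.Invertible R N := by
  refine Groth.Agent.Sga4B.InvLocal.invertible_of_symm ?_ ?_
  · intro φ n n'
    rw [← sub_eq_zero]
    have hloc : ∀ (P : Ideal R) [P.IsMaximal], IsLocalizedModule P.primeCompl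
        (TensorProduct.mk R (Localization.AtPrime P) N 1) := fun P _ =>
      (isLocalizedModule_iff_isBaseChange P.primeCompl (Localization.AtPrime P) _).2
        (TensorProduct.isBaseChange _ _ _)
    refine Module.eq_zero_of_localization_maximal
      (Mₚ := fun P _ => Localization.AtPrime P ⊗[R] N)
      (f := fun P _ => TensorProduct.mk R (Localization.AtPrime P) N 1) _ fun P hP => ?_
    have := h P
    have h1 := invertible_smul_comm (Module.Dual.baseChange (Localization.AtPrime P) φ)
      (1 ⊗ₜ n) (1 ⊗ₜ n')
    rw [Module.Dual.baseChange_apply_tmul, Module.Dual.baseChange_apply_tmul,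
      TensorProduct.smul_tmul', TensorProduct.smul_tmul', smul_assoc, smul_assoc, one_smul,
      ← TensorProduct.smul_tmul', ← TensorProduct.smul_tmul', ← TensorProduct.tmul_smul,
      ← TensorProduct.tmul_smul] at h1
    rw [map_sub, sub_eq_zero]
    exact h1
  · rw [← LinearMap.range_eq_top]
    by_contra hne
    obtain ⟨q, hq, hle⟩ := Ideal.exists_le_maximal _ hne
    let L := Localization.AtPrime q
    obtain ⟨f, y, hy⟩ := exists_isUnit_apply (h q)
    have hn : ∃ n : N, IsUnit (f (1 ⊗ₜ n)) := by
      by_contra hcon
      push Not at hcon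
      have h1 : ∀ z : L ⊗[R] N, f z ∈ IsLocalRing.maximalIdeal L := by
        intro z
        induction z with
        | zero => rw [map_zero]; exact Ideal.zero_mem _
        | add x y hx hy => rw [map_add]; exact Ideal.add_mem _ hx hy
        | tmul l n =>
          have h2 : l ⊗ₜ[R] n = l • ((1 : L) ⊗ₜ[R] n) := by
            rw [TensorProduct.smul_tmul', smul_eq_mul, mul_one]
          rw [h2, map_smul]
          exact Ideal.mul_mem_left _ _ (hcon n)
      exact h1 y hy
    obtain ⟨n, hn⟩ := hn
    let g : N →ₗ[R] L := (f.restrictScalars R) ∘ₗ TensorProduct.mk R L N 1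
    obtain ⟨h', s, hs⟩ := Module.FinitePresentation.exists_lift_of_isLocalizedModule
      q.primeCompl (Algebra.linearMap R L) g
    have h3 : algebraMap R L (h' n) = algebraMap R L s * f (1 ⊗ₜ n) := by
      have := LinearMap.congr_fun hs n
      change algebraMap R L (h' n) = (s : R) • f (1 ⊗ₜ n) at this
      rw [this, Algebra.smul_def]
    have h4 : IsUnit (algebraMap R L (h' n)) := by
      rw [h3]
      exact (IsLocalization.map_units L s).mul hn
    have h5 : h' n ∉ q := (IsLocalization.AtPrime.isUnit_to_map_iff L q (h' n)).1 h4
    exact h5 (hle ⟨h' ⊗ₜ n, contractLeft_apply _ _⟩)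

end

section Fibre

open IsLocalRing

variable {A L k F M : Type*} [CommRing A] [CommRing L] [IsLocalRing L] [IsNoetherianRing L]
  [Field k] [CommRing F] [Algebra A L] [Algebra A k] [Algebra L F] [Algebra k F] [Algebra A F]
  [IsScalarTower A L F] [IsScalarTower A k F]
  [Algebra k (ResidueField L)] [IsScalarTower A k (ResidueField L)]
  [AddCommGroup M] [Module L M] [Module A M] [IsScalarTower A L M]

omit [IsNoetherianRing L] [Module A M] [IsScalarTower A L M] in
theorem invertible_residueField (hF : Algebra.IsPushout A k L F)
    (h : Module.Invertible F (F ⊗[L] M)) :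
    Module.Invertible (ResidueField L) (ResidueField L ⊗[L] M) := by
  let a : F →ₐ[A] ResidueField L := Algebra.pushoutDesc F
    (IsScalarTower.toAlgHom A k (ResidueField L)) (IsScalarTower.toAlgHom A L (ResidueField L))
    (fun x y => mul_comm _ _)
  let _ : Algebra F (ResidueField L) := a.toRingHom.toAlgebra
  have : IsScalarTower L F (ResidueField L) := IsScalarTower.of_algebraMap_eq fun x =>
    (Algebra.pushoutDesc_right F (IsScalarTower.toAlgHom A k (ResidueField L))
      (IsScalarTower.toAlgHom A L (ResidueField L)) (fun x y => mul_comm _ _) x).symm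
  exact Module.Invertible.congr
    (AlgebraTensorModule.cancelBaseChange L F (ResidueField L) (ResidueField L) M)

omit [IsNoetherianRing L] in
theorem exists_generator [Module.Finite L M]
    (h : Module.Invertible (ResidueField L) (ResidueField L ⊗[L] M)) :
    ∃ x : M, Submodule.span L {x} = ⊤ := by
  have hfree : Module.Free (ResidueField L) (ResidueField L ⊗[L] M) := inferInstance
  obtain ⟨e⟩ := Module.Invertible.free_iff_linearEquiv.1 hfree
  obtain ⟨x, hx⟩ := TensorProduct.mk_surjective L M (ResidueField L)
    Ideal.Quotient.mk_surjective (e.symm 1)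
  let b : Module.Basis Unit (ResidueField L) (ResidueField L ⊗[L] M) :=
    (Module.Basis.singleton Unit (ResidueField L)).map e.symm
  refine ⟨x, ?_⟩
  have h1 := IsLocalRing.span_eq_top_of_tmul_eq_basis (fun _ : Unit => x) b (fun i => by
    simp only [b, Module.Basis.map_apply, Module.Basis.singleton_apply]
    exact hx)
  rwa [Set.range_const] at h1

omit [IsLocalRing L] [IsNoetherianRing L] [Algebra k (ResidueField L)]
  [IsScalarTower A k (ResidueField L)] in
theorem lTensor_injective (hF : Algebra.IsPushout A k L F)
    (h : Module.Invertible F (F ⊗[L] M)) (φ : L →ₗ[L] M) (hφ : Function.Surjective φ) :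
    Function.Injective ((φ.restrictScalars A).lTensor k) := by
  have h1 : Function.Bijective (φ.baseChange F) :=
    Module.Invertible.bijective_of_surjective (LinearMap.lTensor_surjective F hφ)
  have h2 : ∀ w : k ⊗[A] L,
      φ.baseChange F ((Algebra.IsPushout.cancelBaseChange A k L F L).symm w) =
        (Algebra.IsPushout.cancelBaseChange A k L F M).symm ((φ.restrictScalars A).lTensor k w) := by
    intro w
    induction w with
    | zero => simp
    | add x y hx hy => rw [map_add, map_add, map_add, map_add, hx, hy]
    | tmul c x =>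
      rw [Algebra.IsPushout.cancelBaseChange_symm_tmul, LinearMap.lTensor_tmul,
        Algebra.IsPushout.cancelBaseChange_symm_tmul, LinearMap.baseChange_tmul]
      rfl
  refine (injective_iff_map_eq_zero _).2 fun w hw => ?_
  have h3 := h2 w
  rw [hw, map_zero] at h3
  have h4 := h1.1 (h3.trans (map_zero _).symm)
  simpa using h4

omit [IsNoetherianRing L] in
theorem subsingleton_of_fibre [Module.Finite L M] (h : ∀ z : k ⊗[A] M, z = 0) :
    Subsingleton M := by
  have h4 : ∀ x : M, (1 : ResidueField L) ⊗ₜ[L] x = 0 := by
    intro x
    let g : k ⊗[A] M →ₗ[A] ResidueField L ⊗[A] M :=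
      (IsScalarTower.toAlgHom A k (ResidueField L)).toLinearMap.rTensor _
    have h5 := congrArg g (h (1 ⊗ₜ x))
    rw [map_zero] at h5
    have h6 : (1 : ResidueField L) ⊗ₜ[A] x = 0 := by
      rw [← h5]
      simp [g]
    have h7 := congrArg (TensorProduct.mapOfCompatibleSMul L A A (ResidueField L) M) h6
    simpa using h7
  have h5 : Subsingleton (ResidueField L ⊗[L] M) := by
    refine ⟨fun a b => ?_⟩
    obtain ⟨a, rfl⟩ := TensorProduct.mk_surjective L M (ResidueField L)
      Ideal.Quotient.mk_surjective a
    obtain ⟨b, rfl⟩ := TensorProduct.mk_surjective L M (ResidueField L)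
      Ideal.Quotient.mk_surjective b
    rw [TensorProduct.mk_apply, TensorProduct.mk_apply, h4, h4]
  exact IsLocalRing.subsingleton_tensorProduct.1 h5

omit [IsLocalRing L] [IsNoetherianRing L] [Algebra k (ResidueField L)]
  [IsScalarTower A k (ResidueField L)] in
theorem ker_fibre_eq_zero [Module.Flat A M] (φ : L →ₗ[L] M) (hφ : Function.Surjective φ)
    (h1 : Function.Injective ((φ.restrictScalars A).lTensor k))
    (z : k ⊗[A] (LinearMap.ker φ)) : z = 0 := by
  have hex : Function.Exact ((LinearMap.ker φ).subtype.restrictScalars A)
      (φ.restrictScalars A) := LinearMap.exact_subtype_ker_map φ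
  have h2 : Function.Injective (((LinearMap.ker φ).subtype.restrictScalars A).lTensor k) :=
    LinearMap.lTensor_injective_of_exact_of_flat (φ.restrictScalars A) hφ
      ((LinearMap.ker φ).subtype.restrictScalars A)
      (Submodule.subtype_injective (LinearMap.ker φ)) hex k
  apply h2
  apply h1
  rw [map_zero, map_zero, ← LinearMap.comp_apply, ← LinearMap.lTensor_comp,
    hex.linearMap_comp_eq_zero, LinearMap.lTensor_zero, LinearMap.zero_apply]

/-- Fibre criterion for freeness of rank one. -/
theorem nonempty_linearEquiv [Module.Finite L M] [Module.Flat A M] (hF : Algebra.IsPushout A k L F)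
    (h : Module.Invertible F (F ⊗[L] M)) : Nonempty (L ≃ₗ[L] M) := by
  obtain ⟨x, hx⟩ := exists_generator (invertible_residueField (k := k) hF h)
  let φ : L →ₗ[L] M := LinearMap.toSpanSingleton L M x
  have hφ : Function.Surjective φ := by
    rw [← LinearMap.range_eq_top, LinearMap.range_toSpanSingleton, hx]
  have h1 := lTensor_injective hF h φ hφ
  have h6 : Subsingleton (LinearMap.ker φ) :=
    subsingleton_of_fibre (A := A) (L := L) (k := k) (M := LinearMap.ker φ)
      (ker_fibre_eq_zero φ hφ h1)
  have h7 : LinearMap.ker φ = ⊥ := (LinearMap.ker φ).subsingleton_iff_eq_bot.1 h6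
  exact ⟨LinearEquiv.ofBijective φ ⟨LinearMap.ker_eq_bot.1 h7, hφ⟩⟩

end Fibre

end K577.InvLoc
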