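import Groth.Agent.QFDual.K577.GorCI
import Groth.Agent.QFDual.K577.InvFib
import Groth.Agent.Models2.Frobenius
import Mathlib.RingTheory.Localization.BaseChange

/-!
# The relative dualizing module of a zero-dimensional local complete intersection
-/

set_option autoImplicit false
universe u

open TensorProduct Disc QFDual CategoryTheory AlgebraicGeometry

namespace K577.LCIFib

open K577.QFBasic K577.Fac K577.InvLoc K577.GorCI

section GorLCI

theorem exists_prime_away {S : Type u} [CommRing S] (q : Ideal S) [hq : q.IsPrime] (g : S)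
    (hg : g ∉ q) : ∃ (p : Ideal (Localization.Away g)) (_ : p.IsPrime),
      p.comap (algebraMap S (Localization.Away g)) = q := by
  have hd : Disjoint (Submonoid.powers g : Set S) (q : Set S) := by
    rw [Set.disjoint_left]
    rintro _ ⟨n, rfl⟩ hn
    exact hg (hq.mem_of_pow_mem n hn)
  exact ⟨q.map (algebraMap S (Localization.Away g)),
    IsLocalization.isPrime_of_isPrime_disjoint (Submonoid.powers g) _ q hq hd,
    IsLocalization.under_map_of_isPrime_disjoint (Submonoid.powers g) _ hq hd⟩

theorem isGorensteinLocalRing_of_isLCIOver (k S : Type u) [Field k] [CommRing S] [Algebra k S]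
    (h : Synt.IsLCIOver k S) [IsArtinianRing S] (q : Ideal S) [hq : q.IsPrime] :
    LocCoh.IsGorensteinLocalRing (Localization.AtPrime q) := by
  obtain ⟨g, hg, hci⟩ := h.2 ⟨q, hq⟩
  obtain ⟨p, hp, rfl⟩ := exists_prime_away q g hg
  have h1 := isGorensteinLocalRing_of_isGlobalCI k (Localization.Away g) hci p
  exact isGorensteinLocalRing_of_ringEquiv
    (IsLocalization.localizationLocalizationAtPrimeIsoLocalization
      (Submonoid.powers g) p).symm.toRingEquiv h1

theorem isGorensteinLocalRing_of_equiv {S T : Type u} [CommRing S] [CommRing T] (e : S ≃+* T)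
    (h : ∀ (q : Ideal S) [q.IsPrime], LocCoh.IsGorensteinLocalRing (Localization.AtPrime q))
    (q : Ideal T) [hq : q.IsPrime] : LocCoh.IsGorensteinLocalRing (Localization.AtPrime q) := by
  have h1 := h (q.comap (e : S →+* T))
  have h2 : Submonoid.map (e : S →* T) (q.comap (e : S →+* T)).primeCompl = q.primeCompl :=
    Submonoid.map_comap_eq_of_surjective e.surjective q.primeCompl
  exact isGorensteinLocalRing_of_ringEquiv (IsLocalization.ringEquivOfRingEquiv
    (M := (q.comap (e : S →+* T)).primeCompl) (T := q.primeCompl)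
    (Localization.AtPrime (q.comap (e : S →+* T))) (Localization.AtPrime q) e h2) h1

end GorLCI

theorem nonempty_omega {k L : Type u} [Field k] [CommRing L] [IsLocalRing L] [Algebra k L]
    [Module.Finite k L] (h : LocCoh.IsGorensteinLocalRing L) : Nonempty (L ≃ₗ[L] Omega k L) := by
  obtain ⟨n, hn⟩ := h.exists_hasInjectiveDimensionLT
  have : IsArtinianRing L := IsArtinianRing.of_finite k L
  have : Module.Injective L L :=
    Groth.Agent.Models2.ArtinInj.injective_of_hasInjectiveDimensionLT n hn
  obtain ⟨l, hl⟩ := Groth.Agent.Models2.Frobenius.exists_isFrob_of_local (k := k) (L := L)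
  refine ⟨LinearEquiv.ofBijective (LinearMap.toSpanSingleton L (Omega k L) ⟨l⟩) ⟨?_, ?_⟩⟩
  · refine (injective_iff_map_eq_zero _).2 fun x hx => hl x fun y => ?_
    have h1 := congrArg (fun φ : Omega k L => φ.toLinearMap y) hx
    exact h1
  · intro φ
    obtain ⟨c, hc⟩ := hl.exists_eq φ.toLinearMap
    refine ⟨c, Omega.ext ?_⟩
    ext x
    exact (hc x).symm

section Precomp

variable (k C L : Type u) [Field k] [CommRing C] [CommRing L] [Algebra k C] [Algebra k L]
  [Algebra C L] [IsScalarTower k C L]

/-- `Omega k L` as a `C`-module. -/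
@[reducible] noncomputable def omegaModuleC : Module C (Omega k L) :=
  Module.compHom _ (algebraMap C L)

attribute [local instance] omegaModuleC

/-- Precomposition with `C → L`. -/
noncomputable def precomp : Omega k L →ₗ[C] Omega k C where
  toFun φ := ⟨φ.toLinearMap ∘ₗ (IsScalarTower.toAlgHom k C L).toLinearMap⟩
  map_add' _ _ := rfl
  map_smul' c φ := by
    apply Omega.ext
    ext x
    change φ.toLinearMap (algebraMap C L c * algebraMap C L x) =
      φ.toLinearMap (algebraMap C L (c * x))
    rw [map_mul (algebraMap C L)]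

theorem exists_kills (M : Submonoid C) [IsLocalization M L] [IsNoetherianRing C] :
    ∃ s ∈ M, ∀ x, algebraMap C L x = 0 → s * x = 0 := by
  classical
  obtain ⟨T, hT⟩ := (isNoetherianRing_iff_ideal_fg C).1 inferInstance (RingHom.ker (algebraMap C L))
  have h1 : ∀ x : T, ∃ s : M, (s : C) * x = 0 := fun x => by
    have : (x : C) ∈ RingHom.ker (algebraMap C L) := by
      rw [← hT]
      exact Ideal.subset_span x.2
    exact (IsLocalization.map_eq_zero_iff M L _).1 this
  choose s hs using h1
  refine ⟨∏ x ∈ T.attach, (s x : C), Submonoid.prod_mem _ fun x _ => (s x).2, fun x hx => ?_⟩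
  have hx' : x ∈ Ideal.span (T : Set C) := by
    rw [hT]
    exact hx
  clear hx
  induction hx' using Submodule.span_induction with
  | mem y hy =>
    rw [← Finset.prod_erase_mul T.attach _ (Finset.mem_attach T ⟨y, hy⟩), mul_assoc,
      hs ⟨y, hy⟩, mul_zero]
  | zero => rw [mul_zero]
  | add a b _ _ ha hb => rw [mul_add, ha, hb, add_zero]
  | smul a b _ hb => rw [smul_eq_mul, mul_left_comm, hb, mul_zero]

theorem nonempty_tensor (M : Submonoid C) [IsLocalization M L] [Module.Finite k C] :
    Nonempty (L ⊗[C] Omega k C ≃ₗ[L] Omega k L) := by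
  have : IsArtinianRing C := IsArtinianRing.of_finite k C
  have hsurj : Function.Surjective (algebraMap C L) := IsArtinianRing.localization_surjective M L
  obtain ⟨s, hsM, hs⟩ := exists_kills C L M
  have : Module.Flat C L := IsLocalization.flat L M
  have : IsScalarTower C L (Omega k L) := IsScalarTower.of_algebraMap_smul fun _ _ => rfl
  have h1 : Function.Bijective ((precomp k C L).baseChange L) := by
    refine baseChange_bijective_of_kills (precomp k C L) {s} ?_ ?_ ?_
    · rw [Set.image_singleton, Ideal.span_singleton_eq_top]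
      exact IsLocalization.map_units L ⟨s, hsM⟩
    · intro t _ φ hφ
      have h2 : φ = 0 := by
        apply Omega.ext
        ext x
        obtain ⟨y, rfl⟩ := hsurj x
        exact congrArg (fun ψ : Omega k C => ψ.toLinearMap y) hφ
      rw [h2, smul_zero]
    · intro t ht ψ
      rw [Set.mem_singleton_iff.1 ht]
      obtain ⟨σ, hσ⟩ := LinearMap.exists_rightInverse_of_surjective
        (IsScalarTower.toAlgHom k C L).toLinearMap (LinearMap.range_eq_top.2 hsurj)
      refine ⟨⟨ψ.toLinearMap ∘ₗ LinearMap.mulLeft k s ∘ₗ σ⟩, Omega.ext ?_⟩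
      ext x
      change ψ.toLinearMap (s * σ (algebraMap C L x)) = ψ.toLinearMap (s * x)
      congr 1
      rw [← sub_eq_zero, ← mul_sub]
      apply hs
      rw [map_sub, sub_eq_zero]
      exact LinearMap.congr_fun hσ (algebraMap C L x)
  exact ⟨(LinearEquiv.ofBijective _ h1).symm ≪≫ₗ IsLocalization.moduleLid M L (Omega k L)⟩

end Precomp

/-- Zero-dimensional Gorenstein fibres have an invertible dualizing module. -/
theorem invertible_of_gorenstein {k C B : Type u} [Field k] [CommRing C] [CommRing B]
    [Algebra k C] [Algebra C B] [Module.Finite k C]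
    (ho : IsOpenImmersion (Spec.map (CommRingCat.ofHom (algebraMap C B))))
    (hg : ∀ (q : Ideal B) [q.IsPrime], LocCoh.IsGorensteinLocalRing (Localization.AtPrime q)) :
    Module.Invertible B (omega k C B) := by
  have : IsArtinianRing C := IsArtinianRing.of_finite k C
  have hfin : Module.Finite C (Omega k C) := by
    let _ := omegaModuleA k C
    have := omega_isScalarTower k C
    have h1 : Module.Finite k (Omega k C) := Module.Finite.equiv (omegaEquivA k C).symm
    exact Module.Finite.of_restrictScalars_finite k C (Omega k C)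
  have : Module.FinitePresentation C (Omega k C) := Module.finitePresentation_of_finite C _
  refine invertible_of_forall_maximal fun q hq => ?_
  let L := Localization.AtPrime q
  let _ : Algebra k B := ((algebraMap C B).comp (algebraMap k C)).toAlgebra
  have t₁ : IsScalarTower k C B := IsScalarTower.of_algebraMap_eq fun _ => rfl
  have t₂ : IsScalarTower k C L := IsScalarTower.of_algebraMap_eq fun x => by
    rw [IsScalarTower.algebraMap_apply C B L, ← IsScalarTower.algebraMap_apply k C B,
      ← IsScalarTower.algebraMap_apply]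
  have hloc : IsLocalization (q.comap (algebraMap C B)).primeCompl L := isLocalization_atPrime ho q
  have hsurj : Function.Surjective (algebraMap C L) :=
    IsArtinianRing.localization_surjective (q.comap (algebraMap C B)).primeCompl L
  have : Module.Finite k L :=
    Module.Finite.of_surjective (IsScalarTower.toAlgHom k C L).toLinearMap hsurj
  obtain ⟨e₁⟩ := nonempty_tensor k C L (q.comap (algebraMap C B)).primeCompl
  obtain ⟨e₂⟩ := nonempty_omega (k := k) (hg q)
  exact Module.Invertible.congr
    (e₂ ≪≫ₗ e₁.symm ≪≫ₗ (AlgebraTensorModule.cancelBaseChange C B L L (Omega k C)).symm)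

theorem isOpenImmersion_of_isPushout (R B R₁ B₁ : Type u) [CommRing R] [CommRing B] [CommRing R₁]
    [CommRing B₁] [Algebra R B] [Algebra R R₁] [Algebra R₁ B₁] [Algebra B B₁] [Algebra R B₁]
    [IsScalarTower R B B₁] [IsScalarTower R R₁ B₁] (h : Algebra.IsPushout R B R₁ B₁)
    (ho : IsOpenImmersion (Spec.map (CommRingCat.ofHom (algebraMap R B)))) :
    IsOpenImmersion (Spec.map (CommRingCat.ofHom (algebraMap R₁ B₁))) :=
  MorphismProperty.of_isPullback (P := @IsOpenImmersion)
    (isPullback_SpecMap_of_isPushout _ _ _ _ (CommRingCat.isPushout_of_isPushout R B R₁ B₁)) ho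

/-- A Noetherian open subscheme of an Artinian affine scheme is Artinian. -/
theorem isArtinianRing_of_isOpenImmersion {C B : Type u} [CommRing C] [CommRing B] [Algebra C B]
    [IsArtinianRing C] [IsNoetherianRing B]
    (ho : IsOpenImmersion (Spec.map (CommRingCat.ofHom (algebraMap C B)))) :
    IsArtinianRing B := by
  refine isArtinianRing_iff_isNoetherianRing_krullDimLE_zero.2
    ⟨inferInstance, Ring.krullDimLE_zero_iff.2 fun I hI => ?_⟩
  obtain ⟨m, hm, hIm⟩ := Ideal.exists_le_maximal I hI.ne_top
  have h1 : (I.comap (algebraMap C B)).IsMaximal := inferInstance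
  have h2 : (m.comap (algebraMap C B)).IsPrime := inferInstance
  have h3 : I.comap (algebraMap C B) = m.comap (algebraMap C B) :=
    h1.eq_of_le h2.ne_top (Ideal.comap_mono hIm)
  have h4 : (⟨I, hI⟩ : PrimeSpectrum B) = ⟨m, hm.isPrime⟩ :=
    (Spec.map (CommRingCat.ofHom (algebraMap C B))).isOpenEmbedding.injective
      (PrimeSpectrum.ext h3)
  have h5 : I = m := congrArg PrimeSpectrum.asIdeal h4
  rw [h5]
  exact hm

end K577.LCIFib
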