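import Groth.Agent.QFDual.K577.FlatBC
import Groth.Agent.QFDual.K577.InvLoc
import Mathlib.LinearAlgebra.TensorProduct.Tower

/-!
# Flatness of the relative dualizing module, and the fibre criterion for its invertibility
-/

set_option autoImplicit false
universe u

open TensorProduct Disc QFDual

namespace K577.OmegaFlat

open K577.QFBasic K577.Fac K577.FlatBC

section General

variable {A B' S P : Type*} [CommRing A] [CommRing B'] [CommRing S] [Algebra A B'] [Algebra B' S]
  [Algebra A S] [IsScalarTower A B' S] [AddCommGroup P] [Module B' P] [Module A P]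
  [IsScalarTower A B' P]

theorem baseChange_injective_of_kills [Module.Flat B' S] {M N : Type*} [AddCommGroup M]
    [AddCommGroup N] [Module B' M] [Module B' N] (f : M →ₗ[B'] N) (G : Set B')
    (hG : Ideal.span (algebraMap B' S '' G) = ⊤)
    (hker : ∀ s ∈ G, ∀ x, f x = 0 → s • x = 0) : Function.Injective (f.lTensor S) := by
  refine (injective_iff_map_eq_zero _).2 fun z hz => ?_
  have hex : Function.Exact (LinearMap.ker f).subtype f := LinearMap.exact_subtype_ker_map f
  have hex2 := Module.Flat.lTensor_exact S hex
  obtain ⟨w, rfl⟩ := (hex2 z).1 hz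
  have hw : w = 0 := by
    apply eq_zero_of_span (S := S) _ hG
    rintro _ ⟨s, hs, rfl⟩
    clear hz
    induction w with
    | zero => simp
    | add x y hx hy => rw [smul_add, hx, hy, add_zero]
    | tmul a x =>
      rw [algebraMap_smul, ← TensorProduct.tmul_smul]
      have : s • x = 0 := Subtype.ext (hker s hs x x.2)
      rw [this, TensorProduct.tmul_zero]
  rw [hw, map_zero]

theorem flat_of_fac [Module.Flat B' S] (G : Set B')
    (hG : Ideal.span (algebraMap B' S '' G) = ⊤)
    (hfac : ∀ s ∈ G, ∃ (n : ℕ) (u : P →ₗ[A] (Fin n → A)) (v : (Fin n → A) →ₗ[A] P),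
      ∀ x, v (u x) = s • x) : Module.Flat A (S ⊗[B'] P) := by
  rw [Module.Flat.iff_lTensor_preserves_injective_linearMap]
  intro N N' _ _ _ _ f hf
  let F : P ⊗[A] N →ₗ[B'] P ⊗[A] N' := AlgebraTensorModule.lTensor B' P f
  have hker : ∀ s ∈ G, ∀ x, F x = 0 → s • x = 0 := by
    intro s hs z hz
    obtain ⟨n, p, q, hpq⟩ := hfac s hs
    have h1 : ∀ z : P ⊗[A] N, q.rTensor N (p.rTensor N z) = s • z := by
      intro z
      induction z with
      | zero => simp
      | add x y hx hy => rw [map_add, map_add, hx, hy, smul_add]
      | tmul x y => rw [LinearMap.rTensor_tmul, LinearMap.rTensor_tmul, hpq,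
          TensorProduct.smul_tmul']
    have h2 : ∀ z : P ⊗[A] N, f.lTensor (Fin n → A) (p.rTensor N z) = p.rTensor N' (F z) := by
      intro z
      induction z with
      | zero => simp
      | add x y hx hy => rw [map_add, map_add, map_add, map_add, hx, hy]
      | tmul x y => rfl
    have h3 : Function.Injective (f.lTensor (Fin n → A)) :=
      Module.Flat.lTensor_preserves_injective_linearMap f hf
    have h4 : p.rTensor N z = 0 := by
      apply h3
      rw [h2, hz, map_zero, map_zero]
    rw [← h1, h4, map_zero]
  have hinj := baseChange_injective_of_kills (S := S) F G hG hker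
  have h5 : ∀ z : (S ⊗[B'] P) ⊗[A] N,
      AlgebraTensorModule.assoc A B' B' S P N' (f.lTensor (S ⊗[B'] P) z) =
        F.lTensor S (AlgebraTensorModule.assoc A B' B' S P N z) := by
    intro z
    induction z with
    | zero => simp
    | add x y hx hy => simp only [map_add, hx, hy]
    | tmul x y =>
      induction x with
      | zero => simp
      | add a b ha hb => simp only [TensorProduct.add_tmul, map_add, ha, hb]
      | tmul a b => rfl
  refine (injective_iff_map_eq_zero _).2 fun z hz => ?_
  have h6 := h5 z
  rw [hz, map_zero] at h6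
  have h7 := hinj (h6.symm.trans (map_zero _).symm)
  simpa using h7

end General

section Omega

attribute [local instance] omegaModuleA omega_isScalarTower

theorem omega_fac {A B' : Type*} [CommRing A] [CommRing B'] [Algebra A B'] (s : B')
    (hs : s ∈ facIdeal A B') :
    ∃ (n : ℕ) (u : Omega A B' →ₗ[A] (Fin n → A)) (v : (Fin n → A) →ₗ[A] Omega A B'),
      ∀ x, v (u x) = s • x := by
  obtain ⟨n, p, q, hpq⟩ := hs
  classical
  let e : (Fin n → A) ≃ₗ[A] Module.Dual A (Fin n → A) := (Pi.basisFun A (Fin n)).toDualEquiv
  refine ⟨n, e.symm.toLinearMap ∘ₗ q.dualMap ∘ₗ (omegaEquivA A B').toLinearMap,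
    (omegaEquivA A B').symm.toLinearMap ∘ₗ p.dualMap ∘ₗ e.toLinearMap, fun x => ?_⟩
  simp only [LinearMap.comp_apply, LinearEquiv.coe_coe, LinearEquiv.apply_symm_apply]
  apply Omega.ext
  ext y
  change x.toLinearMap (q (p y)) = x.toLinearMap (s * y)
  rw [hpq]

variable {A B' B : Type u} [CommRing A] [CommRing B'] [CommRing B] [IsNoetherianRing A]
  [IsNoetherianRing B] [Algebra A B'] [Algebra B' B] [Algebra A B] [IsScalarTower A B' B]
  [Module.Flat A B]

theorem finite_omega [Module.Finite A B'] : Module.Finite B' (Omega A B') := by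
  have h1 : Module.Finite A (B' →ₗ[A] A) := inferInstance
  have : Module.Finite A (Omega A B') := Module.Finite.equiv (omegaEquivA A B').symm
  exact Module.Finite.of_restrictScalars_finite A B' _

end Omega

end K577.OmegaFlat
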