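import Groth.Prelude.Def_QFDual

/-!
# The relative dualizing module of a product
-/

set_option autoImplicit false
universe u

open TensorProduct Disc

namespace K577.Prod

variable (A B' B C' C : Type u) [CommRing A] [CommRing B'] [CommRing B] [CommRing C'] [CommRing C]
  [Algebra A B'] [Algebra B' B] [Algebra A B] [IsScalarTower A B' B]
  [Algebra A C'] [Algebra C' C] [Algebra A C] [IsScalarTower A C' C]
  [Algebra (B' × C') (B × C)] [IsScalarTower A (B' × C') (B × C)]

/-- restriction of a functional to the first factor -/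
def res₁ (φ : Omega A (B' × C')) : Omega A B' := Omega.mk (φ.toLinearMap ∘ₗ LinearMap.inl A B' C')

/-- restriction of a functional to the second factor -/
def res₂ (φ : Omega A (B' × C')) : Omega A C' := Omega.mk (φ.toLinearMap ∘ₗ LinearMap.inr A B' C')

/-- extension by zero from the first factor -/
def ext₁ (ψ : Omega A B') : Omega A (B' × C') := Omega.mk (ψ.toLinearMap ∘ₗ LinearMap.fst A B' C')

/-- extension by zero from the second factor -/
def ext₂ (ψ : Omega A C') : Omega A (B' × C') := Omega.mk (ψ.toLinearMap ∘ₗ LinearMap.snd A B' C')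

variable {A B' B C' C}

theorem smul_def' (halg : algebraMap (B' × C') (B × C) = (algebraMap B' B).prodMap (algebraMap C' C))
    (r : B' × C') (x : B × C) : r • x = (r.1 • x.1, r.2 • x.2) := by
  rw [Algebra.smul_def, halg]
  ext
  · simp [Algebra.smul_def]
  · simp [Algebra.smul_def]

/-- The forward map. -/
noncomputable def fwd
    (halg : algebraMap (B' × C') (B × C) = (algebraMap B' B).prodMap (algebraMap C' C)) :
    QFDual.omega A (B' × C') (B × C) →+ QFDual.omega A B' B × QFDual.omega A C' C :=
  TensorProduct.liftAddHom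
    { toFun := fun x =>
        { toFun := fun φ => (x.1 ⊗ₜ res₁ A B' C' φ, x.2 ⊗ₜ res₂ A B' C' φ)
          map_zero' := by
            have h1 : res₁ A B' C' 0 = 0 := rfl
            have h2 : res₂ A B' C' 0 = 0 := rfl
            rw [h1, h2, tmul_zero, tmul_zero]
            rfl
          map_add' := fun φ ψ => by
            have h1 : res₁ A B' C' (φ + ψ) = res₁ A B' C' φ + res₁ A B' C' ψ := rfl
            have h2 : res₂ A B' C' (φ + ψ) = res₂ A B' C' φ + res₂ A B' C' ψ := rfl
            rw [h1, h2, tmul_add, tmul_add]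
            rfl }
      map_zero' := by
        ext φ
        · exact TensorProduct.zero_tmul _ _
        · exact TensorProduct.zero_tmul _ _
      map_add' := fun x y => by
        ext φ
        · exact TensorProduct.add_tmul _ _ _
        · exact TensorProduct.add_tmul _ _ _ }
    (by
      intro r x φ
      have h1 : res₁ A B' C' (r • φ) = r.1 • res₁ A B' C' φ := by
        apply Omega.ext
        ext z
        change φ.toLinearMap (r * (z, 0)) = φ.toLinearMap (r.1 * z, 0)
        congr 1
        ext
        · rfl
        · simp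
      have h2 : res₂ A B' C' (r • φ) = r.2 • res₂ A B' C' φ := by
        apply Omega.ext
        ext z
        change φ.toLinearMap (r * (0, z)) = φ.toLinearMap (0, r.2 * z)
        congr 1
        ext
        · simp
        · rfl
      change ((r • x).1 ⊗ₜ[B'] res₁ A B' C' φ, (r • x).2 ⊗ₜ[C'] res₂ A B' C' φ) =
        (x.1 ⊗ₜ[B'] res₁ A B' C' (r • φ), x.2 ⊗ₜ[C'] res₂ A B' C' (r • φ))
      rw [h1, h2, tmul_smul, tmul_smul, smul_def' halg, smul_tmul', smul_tmul'])

/-- The first component of the inverse. -/
noncomputable def inv₁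
    (halg : algebraMap (B' × C') (B × C) = (algebraMap B' B).prodMap (algebraMap C' C)) :
    QFDual.omega A B' B →+ QFDual.omega A (B' × C') (B × C) :=
  TensorProduct.liftAddHom
    { toFun := fun x =>
        { toFun := fun φ => ((x, 0) : B × C) ⊗ₜ ext₁ A B' C' φ
          map_zero' := by
            have h1 : ext₁ A B' C' 0 = 0 := rfl
            rw [h1, tmul_zero]
          map_add' := fun φ ψ => by
            have h1 : ext₁ A B' C' (φ + ψ) = ext₁ A B' C' φ + ext₁ A B' C' ψ := rfl
            rw [h1, tmul_add] }
      map_zero' := by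
        ext φ
        exact TensorProduct.zero_tmul _ _
      map_add' := fun x y => by
        ext φ
        change ((x + y, 0) : B × C) ⊗ₜ[B' × C'] ext₁ A B' C' φ =
          ((x, 0) : B × C) ⊗ₜ[B' × C'] ext₁ A B' C' φ + ((y, 0) : B × C) ⊗ₜ[B' × C'] ext₁ A B' C' φ
        rw [← TensorProduct.add_tmul, Prod.mk_add_mk, add_zero] }
    (by
      intro r x φ
      have h1 : ext₁ A B' C' (r • φ) = ((r, 0) : B' × C') • ext₁ A B' C' φ := by
        apply Omega.ext
        apply LinearMap.ext
        intro z
        rfl
      change ((r • x, 0) : B × C) ⊗ₜ[B' × C'] ext₁ A B' C' φ =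
        ((x, 0) : B × C) ⊗ₜ[B' × C'] ext₁ A B' C' (r • φ)
      rw [h1, tmul_smul, smul_tmul', smul_def' halg]
      simp)

/-- The second component of the inverse. -/
noncomputable def inv₂
    (halg : algebraMap (B' × C') (B × C) = (algebraMap B' B).prodMap (algebraMap C' C)) :
    QFDual.omega A C' C →+ QFDual.omega A (B' × C') (B × C) :=
  TensorProduct.liftAddHom
    { toFun := fun x =>
        { toFun := fun φ => ((0, x) : B × C) ⊗ₜ ext₂ A B' C' φ
          map_zero' := by
            have h1 : ext₂ A B' C' 0 = 0 := rfl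
            rw [h1, tmul_zero]
          map_add' := fun φ ψ => by
            have h1 : ext₂ A B' C' (φ + ψ) = ext₂ A B' C' φ + ext₂ A B' C' ψ := rfl
            rw [h1, tmul_add] }
      map_zero' := by
        ext φ
        exact TensorProduct.zero_tmul _ _
      map_add' := fun x y => by
        ext φ
        change ((0, x + y) : B × C) ⊗ₜ[B' × C'] ext₂ A B' C' φ =
          ((0, x) : B × C) ⊗ₜ[B' × C'] ext₂ A B' C' φ + ((0, y) : B × C) ⊗ₜ[B' × C'] ext₂ A B' C' φ
        rw [← TensorProduct.add_tmul, Prod.mk_add_mk, add_zero] }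
    (by
      intro r x φ
      have h1 : ext₂ A B' C' (r • φ) = ((0, r) : B' × C') • ext₂ A B' C' φ := by
        apply Omega.ext
        apply LinearMap.ext
        intro z
        rfl
      change ((0, r • x) : B × C) ⊗ₜ[B' × C'] ext₂ A B' C' φ =
        ((0, x) : B × C) ⊗ₜ[B' × C'] ext₂ A B' C' (r • φ)
      rw [h1, tmul_smul, smul_tmul', smul_def' halg]
      simp)

theorem exists_equiv
    (halg : algebraMap (B' × C') (B × C) = (algebraMap B' B).prodMap (algebraMap C' C)) :
    ∃ e : QFDual.omega A (B' × C') (B × C) ≃ₗ[A] QFDual.omega A B' B × QFDual.omega A C' C,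
      ∀ (b : B) (c : C) (φ : Disc.Omega A (B' × C')), e ((b, c) ⊗ₜ[B' × C'] φ) =
        (b ⊗ₜ[B'] Disc.Omega.mk (φ.toLinearMap ∘ₗ LinearMap.inl A B' C'),
          c ⊗ₜ[C'] Disc.Omega.mk (φ.toLinearMap ∘ₗ LinearMap.inr A B' C')) := by
  have hf : ∀ (x : B × C) (φ : Omega A (B' × C')), fwd halg (x ⊗ₜ φ) =
      (x.1 ⊗ₜ res₁ A B' C' φ, x.2 ⊗ₜ res₂ A B' C' φ) := fun x φ => rfl
  have hi₁ : ∀ (x : B) (φ : Omega A B'), inv₁ halg (x ⊗ₜ φ) = ((x, 0) : B × C) ⊗ₜ ext₁ A B' C' φ :=
    fun x φ => rfl
  have hi₂ : ∀ (x : C) (φ : Omega A C'), inv₂ halg (x ⊗ₜ φ) = ((0, x) : B × C) ⊗ₜ ext₂ A B' C' φ :=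
    fun x φ => rfl
  let inv : QFDual.omega A B' B × QFDual.omega A C' C →+ QFDual.omega A (B' × C') (B × C) :=
    (inv₁ halg).coprod (inv₂ halg)
  have hinv : ∀ z w, inv (z, w) = inv₁ halg z + inv₂ halg w := fun z w => rfl
  have hl : ∀ z, inv (fwd halg z) = z := by
    intro z
    induction z using TensorProduct.induction_on with
    | zero => rw [map_zero, map_zero]
    | add x y hx hy => rw [map_add, map_add, hx, hy]
    | tmul x φ =>
      rw [hf, hinv, hi₁, hi₂]
      have h1 : ext₁ A B' C' (res₁ A B' C' φ) = ((1, 0) : B' × C') • φ := by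
        apply Omega.ext
        apply LinearMap.ext
        intro z
        change φ.toLinearMap (z.1, 0) = φ.toLinearMap ((1, 0) * z)
        congr 1
        ext
        · simp
        · simp
      have h2 : ext₂ A B' C' (res₂ A B' C' φ) = ((0, 1) : B' × C') • φ := by
        apply Omega.ext
        apply LinearMap.ext
        intro z
        change φ.toLinearMap (0, z.2) = φ.toLinearMap ((0, 1) * z)
        congr 1
        ext
        · simp
        · simp
      rw [h1, h2, tmul_smul, tmul_smul, smul_tmul', smul_tmul', smul_def' halg, smul_def' halg]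
      simp only [one_smul, smul_zero]
      rw [← TensorProduct.add_tmul, Prod.mk_add_mk, add_zero, zero_add]
  have hr : ∀ z, fwd halg (inv z) = z := by
    rintro ⟨z, w⟩
    rw [hinv, map_add]
    have h1 : ∀ z : QFDual.omega A B' B, fwd (A := A) halg (inv₁ (A := A) halg z) =
        ((z, 0) : QFDual.omega A B' B × QFDual.omega A C' C) := by
      intro z
      induction z using TensorProduct.induction_on with
      | zero => rw [map_zero, map_zero]; rfl
      | add x y hx hy => rw [map_add, map_add, hx, hy, Prod.mk_add_mk, add_zero]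
      | tmul x φ =>
        rw [hi₁, hf]
        have h1 : res₁ A B' C' (ext₁ A B' C' φ) = φ := rfl
        rw [h1, TensorProduct.zero_tmul]
    have h2 : ∀ z : QFDual.omega A C' C, fwd (A := A) halg (inv₂ (A := A) halg z) =
        ((0, z) : QFDual.omega A B' B × QFDual.omega A C' C) := by
      intro z
      induction z using TensorProduct.induction_on with
      | zero => rw [map_zero, map_zero]; rfl
      | add x y hx hy => rw [map_add, map_add, hx, hy, Prod.mk_add_mk, add_zero]
      | tmul x φ =>
        rw [hi₂, hf]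
        have h1 : res₂ A B' C' (ext₂ A B' C' φ) = φ := rfl
        rw [h1, TensorProduct.zero_tmul]
    rw [h1, h2, Prod.mk_add_mk, add_zero, zero_add]
  have hsmul : ∀ (a : A) (z : QFDual.omega A (B' × C') (B × C)),
      fwd halg (a • z) = a • fwd halg z := by
    intro a z
    induction z using TensorProduct.induction_on with
    | zero => rw [smul_zero, map_zero, smul_zero]
    | add x y hx hy => rw [smul_add, map_add, map_add, hx, hy, smul_add]
    | tmul x φ =>
      rw [smul_tmul', hf, hf]
      rfl
  let e : QFDual.omega A (B' × C') (B × C) ≃ₗ[A] QFDual.omega A B' B × QFDual.omega A C' C :=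
    { toFun := fwd halg
      invFun := inv
      left_inv := hl
      right_inv := hr
      map_add' := map_add _
      map_smul' := hsmul }
  exact ⟨e, fun b c φ => hf (b, c) φ⟩

end K577.Prod
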