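import Mathlib.RingTheory.AdjoinRoot
import Mathlib.RingTheory.Trace.Basic
import Mathlib.LinearAlgebra.Matrix.Charpoly.Coeff
import Mathlib.Algebra.Polynomial.Splits
import Mathlib.Algebra.Polynomial.Degree.Lemmas
import Mathlib.RingTheory.IntegralClosure.IsIntegral.Basic

/-!
# The trace of an integral element is integral, over arbitrary commutative rings
-/

set_option autoImplicit false
universe u

open Polynomial

namespace K577.TraceInt

/-- An eigenvalue of a matrix killed by a monic polynomial over `A` is integral over `A`. -/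
theorem isIntegral_of_det_eq_zero {A S : Type*} [CommRing A] [CommRing S] [Algebra A S]
    {n : Type*} [Fintype n] [DecidableEq n] (M : Matrix n n S) (P : A[X]) (hP : P.Monic)
    (hM : aeval M P = 0) (l : S) (hl : M.charpoly.eval l = 0) : IsIntegral A l := by
  refine ⟨P ^ Fintype.card n, hP.pow _, ?_⟩
  obtain ⟨Q, hQ⟩ : ∃ Q : S[X], P.map (algebraMap A S) = C (aeval l P) + (X - C l) * Q := by
    obtain ⟨Q, hQ⟩ := Polynomial.X_sub_C_dvd_sub_C_eval (a := l) (p := P.map (algebraMap A S))
    refine ⟨Q, ?_⟩
    rw [← hQ, eval_map_algebraMap]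
    ring
  have h1 : aeval M (P.map (algebraMap A S)) = 0 := by
    rw [aeval_map_algebraMap, hM]
  rw [hQ, map_add, aeval_C, map_mul, map_sub, aeval_X, aeval_C] at h1
  have h2 : algebraMap S (Matrix n n S) (aeval l P) =
      (algebraMap S (Matrix n n S) l - M) * aeval M Q := by
    rw [eq_neg_of_add_eq_zero_left h1, ← neg_mul, neg_sub]
  have h3 := congrArg Matrix.det h2
  rw [Matrix.det_mul] at h3
  have h4 : (algebraMap S (Matrix n n S) l - M).det = 0 := by
    rw [← hl, Matrix.eval_charpoly]
    rfl
  rw [h4, zero_mul] at h3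
  have h5 : (algebraMap S (Matrix n n S) (aeval l P)).det = (aeval l P) ^ Fintype.card n := by
    rw [Algebra.algebraMap_eq_smul_one, Matrix.det_smul, Matrix.det_one, mul_one]
  rw [h5] at h3
  rw [eval₂_pow]
  exact h3

theorem isIntegral_trace_matrix {A K : Type*} [CommRing A] [CommRing K] [Algebra A K]
    {n : Type*} [Fintype n] [DecidableEq n] (M : Matrix n n K) (P : A[X]) (hP : P.Monic)
    (hM : aeval M P = 0) : IsIntegral A M.trace := by
  cases subsingleton_or_nontrivial K
  · rw [Subsingleton.elim M.trace 0]
    exact isIntegral_zero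
  obtain ⟨S, _, _, _, _, _, hS⟩ := M.charpoly_monic.exists_splits_map
  let _ : Algebra A S := ((algebraMap K S).comp (algebraMap A K)).toAlgebra
  have : IsScalarTower A K S := IsScalarTower.of_algebraMap_eq fun _ => rfl
  have hinj : Function.Injective (algebraMap K S) := FaithfulSMul.algebraMap_injective K S
  rw [← isIntegral_algebraMap_iff hinj]
  obtain ⟨m, hm⟩ := splits_iff_exists_multiset.1 hS
  rw [(M.charpoly_monic.map _).leadingCoeff, C_1, one_mul] at hm
  have h1 : algebraMap K S M.trace = m.sum := by
    rw [Matrix.trace_eq_neg_charpoly_nextCoeff, map_neg,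
      ← nextCoeff_map hinj, hm, multiset_prod_X_sub_C_nextCoeff, neg_neg]
  rw [h1]
  refine Multiset.sum_induction _ _ (fun a b => IsIntegral.add) isIntegral_zero fun l hl => ?_
  let MS : Matrix n n S := M.map (algebraMap K S)
  have h2 : MS.charpoly = M.charpoly.map (algebraMap K S) := M.charpoly_map _
  refine isIntegral_of_det_eq_zero MS P hP ?_ l ?_
  · let f : Matrix n n K →ₐ[A] Matrix n n S :=
      (IsScalarTower.toAlgHom A K S).mapMatrix
    have h3 : MS = f M := rfl
    rw [h3, aeval_algHom_apply, hM, map_zero]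
  · rw [h2, hm, eval_multiset_prod, Multiset.map_map]
    apply Multiset.prod_eq_zero
    rw [Multiset.mem_map]
    exact ⟨l, hl, by simp⟩

theorem isIntegral_trace {A K L : Type*} [CommRing A] [CommRing K] [CommRing L] [Algebra A K]
    [Algebra K L] [Algebra A L] [IsScalarTower A K L] [Module.Free K L] [Module.Finite K L]
    (x : L) (hx : IsIntegral A x) : IsIntegral A (Algebra.trace K L x) := by
  classical
  obtain ⟨P, hP, hPx⟩ := hx
  let b := Module.Free.chooseBasis K L
  rw [Algebra.trace_eq_matrix_trace b]
  refine isIntegral_trace_matrix _ P hP ?_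
  have h1 : aeval x P = 0 := hPx
  have h2 : ((Algebra.leftMulMatrix b).restrictScalars A) (aeval x P) = 0 := by
    rw [h1, map_zero]
  rw [← aeval_algHom_apply] at h2
  exact h2

end K577.TraceInt
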